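import Cfsg.Agent.Lib.GrossTwo.Plane
import Cfsg.Agent.Lib.HallHigmanB.PLength
import Cfsg.Agent.Lib.OddMax.Sec10.PLength
import Cfsg.Agent.Lib.Elem69.HalfTransitive
import Cfsg.Agent.Lib.Core.Fitting
import Cfsg.Agent.Lib.HallHigmanFermat.Exponent

/-!
# Squares of exceptional elements lie in `O_{2',2}`

In a solvable group with `O_2 = 1` acting faithfully in characteristic `2`, if `t` has order dividing
`2 ^ (e + 1)` and no free cyclic summand, then `t ^ 2 ^ e` lies in `O_{2',2}`.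
-/

set_option autoImplicit false
set_option linter.unusedSectionVars false

namespace Cfsg.Agent.Lib.GrossTwo

open Module Subgroup Cfsg Cfsg.Agent.Lib.HallHigmanB Cfsg.Agent.Lib.HallHigmanFermat
open Cfsg.Agent.Lib.PSolvable
open scoped commutatorElement IsMulCommutative

section

variable {X U : Type*} [CommGroup X] [Finite X] [CommGroup U] {q : ℕ} [hq : Fact q.Prime]
  {c : X →* X →* U}

/-- In a solvable group of isometries `y` lies in `O_{2',2}`. -/
theorem sq_mem (hc : Pairing q c) (hXq : IsPGroup q X) (hq2 : q ≠ 2) (Γ : Subgroup (MulAut X))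
    [Group.IsSolvable Γ] (hΓ : Γ ≤ isom c) (s : Γ) {m : ℕ} (hm : 2 ≤ m) (hqm : q + 1 = 2 ^ m)
    (hs : s ^ 2 ^ m = 1)
    (hfix : ∀ x, ((s : MulAut X) ^ 2 ^ (m - 1)) x = x → (s : MulAut X) x = x)
    (hcard : Nat.card (moved ((s : MulAut X) ^ 2 ^ (m - 1))) ≤ q ^ 2) :
    s ^ 2 ^ (m - 1) ∈ pPrimePCore 2 Γ := by
  classical
  haveI : Fact (Nat.Prime 2) := ⟨Nat.prime_two⟩
  haveI : Finite (MulAut X) := Finite.of_injective (fun f : MulAut X => (f : X → X)) DFunLike.coe_injective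
  have hΓp : IsPSolvable 2 Γ := isPSolvable_of_isSolvable
  have hz : IsPGroup 2 (zpowers s) := by
    intro g
    obtain ⟨i, hi⟩ := mem_zpowers_iff.1 g.2
    refine ⟨m, Subtype.ext ?_⟩
    rw [SubmonoidClass.coe_pow, ← hi, ← zpow_natCast, ← zpow_mul, mul_comm, zpow_mul, zpow_natCast, hs,
      one_zpow, OneMemClass.coe_one]
  obtain ⟨S, hS⟩ := hz.exists_le_sylow
  obtain ⟨G₁, _, _, f, E, hL⟩ := exists_layer (p := 2) hΓp
  haveI := hL.normal
  haveI : IsMulCommutative E := ⟨⟨fun a b => Subtype.ext (hL.comm a a.2 b b.2)⟩⟩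
  rw [← OddMax.Sec10.upperPSeries_two, ← hL.comap_eq, mem_comap]
  set F := (QuotientGroup.mk' E).comp f with hF
  have hH : IsPSolvable 2 (G₁ ⧸ E) := isPSolvable_quotient (isPSolvable_map hΓp f hL.surj) E
  suffices h : F s ^ 2 ^ (m - 1) = 1 by
    rw [← map_pow] at h
    exact (QuotientGroup.eq_one_iff _).1 h
  -- `f s` acts quadratically on `E`
  have hquad : ∀ a : E, Commute ((a : G₁) * f s * (a : G₁)⁻¹) (f s) := by
    intro a
    obtain ⟨p, hp, hpa⟩ : (a : G₁) ∈ (S : Subgroup Γ).map f := by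
      have := hL.le_sylow (S.mapSurjective hL.surj) a.2
      rwa [Sylow.coe_mapSurjective] at this
    have h := commute_conj hc hXq hq2 hm hqm (s := (s : MulAut X))
      (by rw [← SubmonoidClass.coe_pow, hs, OneMemClass.coe_one]) hfix hcard (S.2.map Γ.subtype)
      ((map_subtype_le _).trans hΓ) ⟨s, hS (mem_zpowers s), rfl⟩ (p := (p : MulAut X)) ⟨p, hp, rfl⟩
    have h' : Commute (p * s * p⁻¹) s := Subtype.ext h.eq
    rw [← hpa, ← map_inv, ← map_mul, ← map_mul]
    exact h'.map f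
  haveI : Module (ZMod 2) (Additive E) := AddCommGroup.zmodModule fun v => by
    apply Additive.toMul.injective
    rw [toMul_nsmul, toMul_zero]
    exact Subtype.ext (hL.pow _ (Additive.toMul v).2)
  haveI : FiniteDimensional (ZMod 2) (Additive E) := Module.Finite.of_finite
  set φ : G₁ →* Module.End (ZMod 2) (Additive E) := endRep MulAut.conjNormal with hφ
  have hker : E = φ.ker := by rw [hφ, ker_endRep, ker_conjNormal hL.comm hL.centralizer_le]
  set ρ : G₁ ⧸ E →* Module.End (ZMod 2) (Additive E) := QuotientGroup.lift E φ hker.le with hρ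
  have hρinj : Function.Injective ρ := by
    rw [injective_iff_map_eq_one]
    intro z hz
    obtain ⟨z, rfl⟩ := QuotientGroup.mk_surjective z
    rw [QuotientGroup.eq_one_iff, hker, MonoidHom.mem_ker]
    exact hz
  have hnil : (ρ (F s) - 1) ^ 2 = 0 := by
    refine LinearMap.ext fun v => ?_
    obtain ⟨a, rfl⟩ : ∃ a : E, Additive.ofMul a = v := ⟨Additive.toMul v, ofMul_toMul v⟩
    set h := f s with hh
    show (φ h - 1) ((φ h - 1) (Additive.ofMul a)) = 0
    have hw : (φ h - 1) (Additive.ofMul a) = Additive.ofMul (MulAut.conjNormal h a / a) := by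
      rw [LinearMap.sub_apply, Module.End.one_apply, hφ, endRep_apply, ofMul_div]
    rw [hw, LinearMap.sub_apply, Module.End.one_apply, hφ, endRep_apply, sub_eq_zero]
    congr 1
    apply Subtype.ext
    rw [MulAut.conjNormal_apply, Subgroup.coe_div, MulAut.conjNormal_apply, mul_inv_eq_iff_eq_mul]
    have hc' := hquad a
    have hinv : h * (h * (a : G₁) * h⁻¹ / a) = (h * (a : G₁) * h⁻¹ / a) * h := by
      have h1 : Commute h ((a : G₁) * h * (a : G₁)⁻¹ * h⁻¹) :=
        hc'.symm.mul_right (Commute.refl h).inv_right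
      have h2 := h1.inv_right
      have e : ((a : G₁) * h * (a : G₁)⁻¹ * h⁻¹)⁻¹ = h * (a : G₁) * h⁻¹ / a := by
        rw [div_eq_mul_inv]; group
      rw [e] at h2
      exact h2.eq
    exact hinv
  obtain ⟨n, -, hord⟩ := (Nat.dvd_prime_pow Nat.prime_two).1
    (orderOf_dvd_of_pow_eq_one (show F s ^ 2 ^ m = 1 by rw [← map_pow, hs, map_one]))
  by_cases hn : n ≤ 1
  · rw [← orderOf_dvd_iff_pow_eq_one, hord]
    exact pow_dvd_pow 2 (by omega)
  exfalso
  push Not at hn
  rcases bound_linear hH hL.pCore_eq_bot ρ hρinj (by omega) hord hnil with h2 |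
    ⟨a, k, r, b, hak, hk, hr, hb, hrb, hle, -⟩
  · have : 2 ^ 2 ≤ 2 ^ n := Nat.pow_le_pow_right two_pos hn
    omega
  · rcases Nat.lt_or_ge k 2 with hk2 | hk2
    · rw [show k = 1 by omega] at hrb
      have := Nat.one_lt_pow (show b ≠ 0 by omega) hr.one_lt
      omega
    · have h4 : 2 ^ 2 ≤ 2 ^ k := Nat.pow_le_pow_right two_pos hk2
      have h1 : 1 ≤ 2 ^ a := Nat.one_le_two_pow
      nlinarith [Nat.sub_add_cancel (Nat.one_le_two_pow (n := k))]

end

variable {K V G : Type*} [Field K] [IsAlgClosed K] [AddCommGroup V] [Module K V]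
  [FiniteDimensional K V] [Group G] [Finite G] {q : ℕ} [Fact q.Prime]
  {ρ : G →* Module.End K V} {Q : Subgroup G} {W : Submodule K V}

/-- The scalar of a commutator. -/
theorem exists_pair (hW : IrredSub ρ Q W)
    (hcls : ∀ a ∈ Q, ∀ b ∈ Q, ∀ c ∈ Q, ⁅a, b⁆ * c = c * ⁅a, b⁆) (g h : Q) :
    ∃ u : Kˣ, ∀ w ∈ W, ρ ⁅(g : G), (h : G)⁆ w = (u : K) • w := by
  haveI : Nontrivial W := Submodule.nontrivial_iff_ne_bot.2 hW.1
  obtain ⟨c, hc⟩ := (isIrred_restrictRep hW).exists_scalar (restrictRep hW.2.1 ⁅g, h⁆) fun x => by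
    rw [← map_mul, ← map_mul]
    congr 1
    exact Subtype.ext (hcls _ g.2 _ h.2 _ x.2)
  have hc' : ∀ w ∈ W, ρ ⁅(g : G), (h : G)⁆ w = c • w := fun w hw =>
    congrArg Subtype.val (LinearMap.congr_fun hc ⟨w, hw⟩)
  refine ⟨Units.mk0 c fun h0 => ?_, hc'⟩
  obtain ⟨w, hw, hw0⟩ := (Submodule.ne_bot_iff W).1 hW.1
  apply hw0
  rw [← apply_inv_apply ρ ⁅(g : G), (h : G)⁆ w, hc' w hw, h0, zero_smul, map_zero]

/-- The pairing on `Q` modulo the scalars. -/
theorem exists_pairing (hq2 : q ≠ 2) (hQq : IsPGroup q Q) (hW : IrredSub ρ Q W)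
    (hcls : ∀ a ∈ Q, ∀ b ∈ Q, ∀ c ∈ Q, ⁅a, b⁆ * c = c * ⁅a, b⁆) :
    letI := classCommGroup hW hcls
    ∃ c : (Q ⧸ scalarSub hW.2.1) →* (Q ⧸ scalarSub hW.2.1) →* Kˣ,
      Pairing q c ∧ (classAction hW).range ≤ isom c := by
  classical
  letI := classCommGroup hW hcls
  choose P hP using exists_pair (ρ := ρ) hW hcls
  obtain ⟨w₀, hw₀, hw₀0⟩ := (Submodule.ne_bot_iff W).1 hW.1
  have huniq : ∀ {g h : Q} {u : Kˣ}, (∀ w ∈ W, ρ ⁅(g : G), (h : G)⁆ w = (u : K) • w) → P g h = u := by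
    intro g h u hu
    refine Units.ext ?_
    have h1 := (hP g h w₀ hw₀).symm.trans (hu w₀ hw₀)
    rw [← sub_eq_zero, ← sub_smul, smul_eq_zero] at h1
    exact sub_eq_zero.1 (h1.resolve_right hw₀0)
  have hmulr : ∀ g a b, P g (a * b) = P g a * P g b := fun g a b => huniq fun w hw => by
    rw [Subgroup.coe_mul, commutator_mul_right hcls g.2 a.2 b.2, map_mul, Module.End.mul_apply,
      hP g b w hw, map_smul, hP g a w hw, smul_smul, Units.val_mul, mul_comm]
  have hsc : ∀ g a, a ∈ scalarSub hW.2.1 → P g a = 1 := fun g a ha => huniq fun w hw => by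
    rw [Units.val_one, one_smul]; exact orth_scalar hW g.2 a ha w hw
  have hskew : ∀ g h, P g h * P h g = 1 := fun g h => by
    refine Units.ext ?_
    have e : ρ ⁅(g : G), (h : G)⁆ (ρ ⁅(h : G), (g : G)⁆ w₀) = w₀ := by
      rw [← Module.End.mul_apply, ← map_mul, ← commutatorElement_inv (g : G) h, mul_inv_cancel,
        map_one, Module.End.one_apply]
    rw [hP h g w₀ hw₀, map_smul, hP g h w₀ hw₀, smul_smul] at e
    have h1 : ((P h g : K) * (P g h : K) - 1) • w₀ = 0 := by rw [sub_smul, e, one_smul, sub_self]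
    rw [Units.val_mul, mul_comm, Units.val_one]
    exact sub_eq_zero.1 ((smul_eq_zero.1 h1).resolve_right hw₀0)
  have hmull : ∀ g a b, P (a * b) g = P a g * P b g := fun g a b => by
    rw [eq_inv_of_mul_eq_one_left (hskew (a * b) g), eq_inv_of_mul_eq_one_left (hskew a g),
      eq_inv_of_mul_eq_one_left (hskew b g), hmulr, mul_inv]
  let R : Q → (Q ⧸ scalarSub hW.2.1) →* Kˣ := fun g =>
    QuotientGroup.lift (scalarSub hW.2.1) (MonoidHom.mk' (P g) (hmulr g))
      (fun a ha => MonoidHom.mem_ker.2 (hsc g a ha))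
  have hR : ∀ g h : Q, R g (h : Q ⧸ scalarSub hW.2.1) = P g h := fun g h => rfl
  let L : Q →* (Q ⧸ scalarSub hW.2.1) →* Kˣ := MonoidHom.mk' R fun a b => by
    refine MonoidHom.ext fun x => ?_
    induction x using QuotientGroup.induction_on with
    | _ h => rw [MonoidHom.mul_apply, hR, hR, hR, hmull]
  let c := QuotientGroup.lift (scalarSub hW.2.1) L (fun a ha => MonoidHom.mem_ker.2
    (MonoidHom.ext fun x => by
      induction x using QuotientGroup.induction_on with
      | _ h =>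
        show P a h = 1
        have := hskew a h
        rwa [hsc h a ha, mul_one] at this))
  have hc : ∀ g h : Q, c (g : Q ⧸ scalarSub hW.2.1) (h : Q ⧸ scalarSub hW.2.1) = P g h := fun g h => rfl
  refine ⟨c, ⟨fun x => ?_, fun x hx => ?_, ?_, ?_⟩, ?_⟩
  · induction x using QuotientGroup.induction_on with
    | _ g =>
      rw [hc]
      exact huniq fun w _ => by simp
  · induction x using QuotientGroup.induction_on with
    | _ g =>
      rw [QuotientGroup.eq_one_iff]
      refine mem_scalarSub_of_orth hW g fun k => Orth.symm fun w hw => ?_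
      rw [hP g k w hw, ← hc, hx, Units.val_one, one_smul]
  · exact Finite.of_injective (fun u : {u : Kˣ // u ^ q = 1} =>
      (⟨u.1, (mem_rootsOfUnity q u.1).2 u.2⟩ : rootsOfUnity q K))
      (fun a b h => Subtype.ext (congrArg Subtype.val h :))
  · haveI : NeZero q := ⟨(Fact.out : q.Prime).ne_zero⟩
    refine le_trans (Nat.card_le_card_of_injective (fun u : {u : Kˣ // u ^ q = 1} =>
      (⟨u.1, (mem_rootsOfUnity q u.1).2 u.2⟩ : rootsOfUnity q K))
      (fun a b h => Subtype.ext (congrArg Subtype.val h :))) ?_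
    exact card_rootsOfUnity K q
  · rintro _ ⟨t, rfl⟩ x z
    induction x using QuotientGroup.induction_on with
    | _ g =>
      induction z using QuotientGroup.induction_on with
      | _ h =>
        rw [classAction_mk, classAction_mk, hc, hc]
        refine huniq fun w hw => ?_
        have h1 := scalar_conj hW t.2.1 t.2.2 (g := ⁅(g : G), (h : G)⁆)
          (mul_mem (mul_mem (mul_mem g.2 h.2) (inv_mem g.2)) (inv_mem h.2)) (hP g h) w hw
        rw [show (t : G) * ⁅(g : G), (h : G)⁆ * (t : G)⁻¹ = MulAut.conj (t : G) ⁅(g : G), (h : G)⁆ from rfl,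
          map_commutatorElement] at h1
        exact h1

variable [CharP K 2]

/-- On every component the square lies in `O_{2',2}` of the image of the stabiliser. -/
theorem component_mem [Group.IsSolvable G] (hq2 : q ≠ 2) (hQq : IsPGroup q Q) (hW : IrredSub ρ Q W)
    (hcls : ∀ a ∈ Q, ∀ b ∈ Q, ∀ c ∈ Q, ⁅a, b⁆ * c = c * ⁅a, b⁆) {t : G}
    (htQ : t ∈ normalizer (Q : Set G)) {e : ℕ} (hto : t ^ 2 ^ (e + 1) = 1)
    (htn : (ρ t - 1) ^ (2 ^ (e + 1) - 1) = 0) :
    ∃ hy : t ^ 2 ^ e ∈ classStab ρ hW,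
      (classAction hW).rangeRestrict ⟨_, hy⟩ ∈ pPrimePCore 2 (classAction hW).range := by
  haveI : Fact (Nat.Prime 2) := ⟨Nat.prime_two⟩
  letI := classCommGroup hW hcls
  obtain ⟨a, U, hae, hU, hWU, hs, hsU, hnil⟩ := orbit hW htQ hto htn
  have hsm : (t ^ 2 ^ a) ^ 2 ^ (e + 1 - a) = 1 := by
    rw [← pow_mul, ← pow_add, Nat.add_sub_cancel' hae.le, hto]
  have hyy : t ^ 2 ^ e = (t ^ 2 ^ a) ^ 2 ^ (e - a) := by
    rw [← pow_mul, ← pow_add, Nat.add_sub_cancel' (by omega : a ≤ e)]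
  have he : e + 1 - a - 1 = e - a := by omega
  refine ⟨hyy ▸ pow_mem hs _, ?_⟩
  set σ := (classAction hW).rangeRestrict ⟨_, hs⟩ with hσ
  have hy : (classAction hW).rangeRestrict ⟨t ^ 2 ^ e, hyy ▸ pow_mem hs _⟩ = σ ^ 2 ^ (e + 1 - a - 1) := by
    rw [he, hσ, ← map_pow]
    exact congrArg _ (Subtype.ext hyy)
  rw [hy]
  have hσcoe : (σ : MulAut (Q ⧸ scalarSub hW.2.1)) = classAction hW ⟨_, hs⟩ := rfl
  by_cases hbot : moved (X := Q ⧸ scalarSub hW.2.1) (classAction hW ⟨_, hs⟩ ^ 2 ^ (e + 1 - a - 1)) = ⊥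
  · have h1 : σ ^ 2 ^ (e + 1 - a - 1) = 1 := by
      refine Subtype.ext (MulEquiv.ext fun x => ?_)
      rw [SubmonoidClass.coe_pow, hσcoe, OneMemClass.coe_one, MulAut.one_apply]
      exact div_eq_one.1 (mem_bot.1 (hbot ▸ ⟨x, rfl⟩ :
        (classAction hW ⟨_, hs⟩ ^ 2 ^ (e + 1 - a - 1)) x / x ∈ (⊥ : Subgroup (Q ⧸ scalarSub hW.2.1))))
    rw [h1]
    exact one_mem _
  obtain ⟨hfix, b, hb, hcard⟩ := component hq2 hQq hW hcls hs hU hWU hsU (by omega) hsm hnil hbot
  have hb0 : b ≠ 0 := fun h0 => hbot (eq_bot_of_card_le _ (by simpa [h0] using hcard))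
  have hm2 : 2 ≤ e + 1 - a := by
    by_contra h
    rw [show e + 1 - a = 1 by omega] at hb
    have := Nat.one_lt_pow hb0 (Fact.out : q.Prime).one_lt
    omega
  have hb1 : b = 1 := Cfsg.Agent.Lib.Elem69.Half.pow_add_one_eq_two_pow (Nat.pos_of_ne_zero hb0)
    Fact.out hq2 hm2 (by have := Nat.one_le_two_pow (n := e + 1 - a); omega)
  subst hb1
  rw [pow_one] at hb hcard
  obtain ⟨c, hc, hrange⟩ := exists_pairing hq2 hQq hW hcls
  have hqm : q + 1 = 2 ^ (e + 1 - a) := by have := Nat.one_le_two_pow (n := e + 1 - a); omega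
  haveI : Group.IsSolvable (classAction hW).range :=
    Group.isSolvable_of_surjective (classAction hW).rangeRestrict_surjective
  refine sq_mem hc (hQq.to_quotient _) hq2 _ hrange σ hm2 hqm ?_ ?_ ?_
  · rw [hσ, ← map_pow]
    exact (congrArg _ (Subtype.ext hsm)).trans (map_one _)
  · rw [hσcoe]
    exact hfix
  · rw [hσcoe]
    exact hcard

/-- A nontrivial involution moves some class on a normal `q`-subgroup of class two. -/
theorem exists_component [Group.IsSolvable G] (hρ : Function.Injective ρ) (hO : pCore 2 G = ⊥)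
    {z : G} (hz2 : z ^ 2 = 1) (hz1 : z ≠ 1) :
    ∃ (r : ℕ) (_ : Fact r.Prime) (Q : Subgroup G) (W : Submodule K V) (hW : IrredSub ρ Q W),
      r ≠ 2 ∧ IsPGroup r Q ∧ Q.Normal ∧
      (∀ a ∈ Q, ∀ b ∈ Q, ∀ c ∈ Q, ⁅a, b⁆ * c = c * ⁅a, b⁆) ∧
      ∀ hzS : z ∈ classStab ρ hW, classAction hW ⟨z, hzS⟩ ≠ 1 := by
  classical
  haveI : Fact (Nat.Prime 2) := ⟨Nat.prime_two⟩
  have hordz : orderOf z = 2 := orderOf_eq_prime hz2 hz1
  obtain ⟨r, hr, hzr⟩ : ∃ r : Nat.Primes, (r : ℕ) ≠ 2 ∧ ¬ zpowers z ≤ centralizer (pCore (r : ℕ) G : Set G) := by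
    by_contra hall
    push Not at hall
    apply hz1
    have hzc : z ∈ centralizer (fittingSubgroup G : Set G) := by
      rw [mem_centralizer_iff]
      have : fittingSubgroup G ≤ centralizer ({z} : Set G) := by
        rw [Fitting.fittingSubgroup_eq_iSup_pCore]
        refine iSup_le fun r => ?_
        by_cases h2 : (r : ℕ) = 2
        · rw [h2, hO]; exact bot_le
        · intro x hx
          exact mem_centralizer_singleton_iff.2
            (mem_centralizer_iff.1 (hall r h2 (mem_zpowers z)) x hx)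
      exact fun x hx => mem_centralizer_singleton_iff.1 (this hx)
    have hzF := Fitting.centralizer_fittingSubgroup_le hzc
    haveI := Fitting.isNilpotent_fittingSubgroup (G := G)
    haveI : (fittingSubgroup G).Normal := Fitting.fittingSubgroup_normal
    -- the Sylow `2`-subgroup of the Fitting subgroup is trivial
    obtain ⟨P, hP⟩ := (show IsPGroup 2 (zpowers (⟨z, hzF⟩ : fittingSubgroup G)) from
      IsPGroup.of_card (n := 1) (by rw [Nat.card_zpowers, Subgroup.orderOf_mk, hordz, pow_one])).exists_le_sylow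
    haveI : (P : Subgroup (fittingSubgroup G)).Characteristic := P.characteristic_of_normal inferInstance
    have h1 : (P : Subgroup (fittingSubgroup G)).map (fittingSubgroup G).subtype ≤ pCore 2 G :=
      le_pCore (P.2.map _)
    exact mem_bot.1 (hO ▸ h1 ⟨_, hP (mem_zpowers _), rfl⟩)
  haveI : Fact (r : ℕ).Prime := ⟨r.2⟩
  set P := pCore (r : ℕ) G with hPdef
  have hPr : IsPGroup (r : ℕ) P := pCore_isPGroup
  obtain ⟨C, hC⟩ := Critical.exists_critical hPr
  haveI := hC.char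
  set Q := C.map P.subtype with hQ
  have hQn : Q.Normal := ConjAct.normal_of_characteristic_of_normal
  have hQP : Q ≤ P := map_subtype_le _
  have hQr : IsPGroup (r : ℕ) Q := hPr.to_le hQP
  have hcls : ∀ a ∈ Q, ∀ b ∈ Q, ∀ c ∈ Q, ⁅a, b⁆ * c = c * ⁅a, b⁆ := by
    rintro _ ⟨a, ha, rfl⟩ _ ⟨b, hb, rfl⟩ _ ⟨c, hc, rfl⟩
    rw [← map_commutatorElement, ← map_mul, ← map_mul]
    congr 1
    exact (mem_centralizer_iff.1 (hC.comm_le (commutator_mem_commutator ha (mem_top b))).2 c hc).symm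
  obtain ⟨g₀, hg₀, hgne⟩ : ∃ g ∈ Q, z * g * z⁻¹ ≠ g := by
    by_contra hall
    push Not at hall
    refine hzr (Critical.le_centralizer_of_le_centralizer_critical hQP
      (commutator_le.2 fun a ha b hb => mul_mem (hQn.conj_mem _ hb a) (inv_mem hb)) ?_
      ((normalizer_eq_top_iff.2 (inferInstance : P.Normal)).symm ▸ le_top) ?_ ?_)
    · rintro x ⟨hxP, hxC⟩
      refine ⟨⟨x, hxP⟩, hC.centralizer_le (mem_centralizer_iff.2 fun c hc => Subtype.ext ?_), rfl⟩
      exact mem_centralizer_iff.1 hxC c ⟨c, hc, rfl⟩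
    · rw [Nat.card_zpowers, hordz]
      obtain ⟨k, hk⟩ := hPr.exists_card_eq
      rw [hk]
      exact ((Nat.coprime_primes Nat.prime_two r.2).2 (Ne.symm hr)).pow_right k
    · rw [zpowers_le, mem_centralizer_iff]
      intro g hg
      exact (mul_inv_eq_iff_eq_mul.1 (hall g hg)).symm
  have hQne : (Nat.card Q : K) ≠ 0 := card_ne_zero hr hQr
  set c₀ := z * g₀ * z⁻¹ * g₀⁻¹ with hc₀
  have hzQ : z ∈ normalizer (Q : Set G) := by rw [normalizer_eq_top_iff.2 hQn]; exact mem_top z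
  have hc₀Q : c₀ ∈ Q := mul_mem (conj_mem hzQ hg₀) (inv_mem hg₀)
  have hc₀1 : ρ c₀ ≠ 1 := fun h => hgne (by
    have h1 : c₀ = 1 := hρ (by rw [h, map_one])
    rwa [hc₀, mul_inv_eq_one] at h1)
  obtain ⟨W, hW, w, hw, hwne⟩ := exists_irredSub_moved hQne hc₀Q hc₀1
  refine ⟨r, inferInstance, Q, W, hW, hr, hQr, hQn, hcls, fun hzS hzφ => ?_⟩
  -- `c₀` is a scalar on `W`
  have hcZ : (⟨c₀, hc₀Q⟩ : Q) ∈ scalarSub hW.2.1 := by
    rw [← QuotientGroup.eq_one_iff]
    have h := DFunLike.congr_fun hzφ ((⟨g₀, hg₀⟩ : Q) : Q ⧸ scalarSub hW.2.1)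
    rw [classAction_mk, MulAut.one_apply] at h
    rw [show (⟨c₀, hc₀Q⟩ : Q) = ⟨z * g₀ * z⁻¹, conj_mem hzQ hg₀⟩ * ⟨g₀, hg₀⟩⁻¹ from rfl,
      QuotientGroup.mk_mul, QuotientGroup.mk_inv, h, mul_inv_cancel]
  obtain ⟨c, hc⟩ := mem_scalarSub.1 hcZ
  have hiter : ∀ i : ℕ, ∀ u ∈ W,
      ρ (z ^ i * g₀ * (z ^ i)⁻¹) u = c ^ i • ρ g₀ u := by
    intro i
    induction i with
    | zero => intro u _; simp
    | succ i ih =>
      intro u hu
      have hsc := scalar_conj hW (pow_mem hzQ i) (mem_classStab.1 (pow_mem hzS i)).2 hc₀Q hc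
      have hmem : z ^ i * g₀ * (z ^ i)⁻¹ ∈ Q := conj_mem (pow_mem hzQ i) hg₀
      rw [show z ^ (i + 1) * g₀ * (z ^ (i + 1))⁻¹ =
          (z ^ i * c₀ * (z ^ i)⁻¹) * (z ^ i * g₀ * (z ^ i)⁻¹) by
        rw [hc₀, pow_succ]; group, map_mul, Module.End.mul_apply,
        hsc _ (hW.2.1 _ hmem u hu), ih u hu, smul_smul, ← pow_succ']
  obtain ⟨k, hk⟩ : ∃ k, z ^ 2 ^ k = 1 := ⟨1, by rw [pow_one, hz2]⟩
  have hk' : z ^ 2 ^ k = 1 := hk
  have h1 := hiter (2 ^ k) w hw
  rw [hk', one_mul, inv_one, mul_one] at h1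
  have hgw : ρ g₀ w ≠ 0 := fun h => hwne (by
    have hw0 : w = 0 := by simpa [apply_inv_apply] using congrArg (ρ g₀⁻¹) h
    rw [hw0, map_zero])
  have hck : c ^ 2 ^ k = 1 := by
    have h2 : (c ^ 2 ^ k - 1) • ρ g₀ w = 0 := by rw [sub_smul, one_smul, ← h1, sub_self]
    exact sub_eq_zero.1 ((smul_eq_zero.1 h2).resolve_right hgw)
  have hc1 : c = 1 := by
    have : (c - 1) ^ 2 ^ k = 0 := by rw [sub_pow_char_pow, hck, one_pow, sub_self]
    exact sub_eq_zero.1 ((pow_eq_zero_iff (pow_ne_zero _ two_ne_zero)).1 this)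
  exact hwne (by rw [hc w hw, hc1, one_smul])

/-- **Exceptional squares lie in `O_{2',2}`.** -/
theorem pow_mem_pPrimePCore [Group.IsSolvable G] (hρ : Function.Injective ρ) (hO : pCore 2 G = ⊥)
    {t : G} {e : ℕ} (hto : t ^ 2 ^ (e + 1) = 1) (htn : (ρ t - 1) ^ (2 ^ (e + 1) - 1) = 0) :
    t ^ 2 ^ e ∈ pPrimePCore 2 G := by
  classical
  haveI : Fact (Nat.Prime 2) := ⟨Nat.prime_two⟩
  set C := Subgroup.normalClosure ({t ^ 2 ^ e} : Set G) with hC
  -- the odd elements of `C`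
  set O := Subgroup.closure {x : G | x ∈ C ∧ Odd (orderOf x)} with hOdef
  have hOC : O ≤ C := (closure_le C).2 fun x hx => hx.1
  haveI : O.Normal := ⟨fun x hx g => by
    have hle : O ≤ O.comap (MulAut.conj g).toMonoidHom := (closure_le _).2 (by
      rintro y ⟨hy, hyo⟩
      refine subset_closure ⟨?_, ?_⟩
      · exact (normalClosure_normal).conj_mem y hy g
      · show Odd (orderOf (MulAut.conj g y))
        rwa [MulEquiv.orderOf_eq])
    exact hle hx⟩
  have hOodd : (Nat.card O).Coprime 2 := by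
    rw [Nat.coprime_comm, Nat.prime_two.coprime_iff_not_dvd]
    intro h2
    obtain ⟨z, hz⟩ := exists_prime_orderOf_dvd_card' 2 h2
    have hz2 : (z : G) ^ 2 = 1 := by
      rw [← orderOf_coe z] at hz
      exact hz ▸ pow_orderOf_eq_one (z : G)
    have hz1 : (z : G) ≠ 1 := fun h => by
      rw [← orderOf_coe z, h, orderOf_one] at hz
      omega
    obtain ⟨r, hr, Q, W, hW, hr2, hQr, hQn, hcls, hmove⟩ := exists_component (ρ := ρ) hρ hO hz2 hz1
    -- every conjugate of the square stabilises the class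
    set π := classAction hW
    let N : Subgroup G := ((pPrimePCore 2 π.range).comap π.rangeRestrict).map (classStab ρ hW).subtype
    have hCN : C ≤ N := by
      refine (closure_le N).2 fun x hx => ?_
      obtain ⟨a, ha, hconj⟩ := Group.mem_conjugatesOfSet_iff.1 hx
      obtain ⟨g, hg⟩ := isConj_iff.1 hconj
      rw [Set.mem_singleton_iff.1 ha] at hg
      rw [← hg, ← conj_pow]
      obtain ⟨hy, hmem⟩ := component_mem (ρ := ρ) (e := e) hr2 hQr hW hcls (t := g * t * g⁻¹)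
        (by rw [normalizer_eq_top_iff.2 hQn]; exact mem_top _)
        (by rw [conj_pow, hto, mul_one, mul_inv_cancel])
        (by
          have h : ∀ i : ℕ, (ρ (g * t * g⁻¹) - 1) ^ i = ρ g * (ρ t - 1) ^ i * ρ g⁻¹ := by
            intro i
            induction i with
            | zero => simp [← map_mul]
            | succ i ih =>
              rw [pow_succ, ih, pow_succ, show ρ (g * t * g⁻¹) - 1 = ρ g * (ρ t - 1) * ρ g⁻¹ by
                rw [mul_sub, sub_mul, mul_one, ← map_mul, ← map_mul, ← map_mul, mul_inv_cancel,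
                  map_one]]
              simp only [mul_assoc]
              rw [← mul_assoc (ρ g⁻¹) (ρ g), ← map_mul, inv_mul_cancel, map_one, one_mul]
          rw [h, htn, mul_zero, zero_mul])
      exact ⟨⟨_, hy⟩, hmem, rfl⟩
    let M : Subgroup G := ((pPrimeCore 2 π.range).comap π.rangeRestrict).map (classStab ρ hW).subtype
    have hOM : O ≤ M := by
      refine (closure_le M).2 fun x hx => ?_
      obtain ⟨⟨x, hxS⟩, hxN, rfl⟩ := hCN hx.1
      refine ⟨⟨x, hxS⟩, ?_, rfl⟩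
      have hxN' : π.rangeRestrict ⟨x, hxS⟩ ∈ pPrimePCore 2 π.range := hxN
      obtain ⟨k, hk⟩ := OddMax.Sec10.exists_pow_mem_pPrimeCore hxN'
      show π.rangeRestrict ⟨x, hxS⟩ ∈ pPrimeCore 2 π.range
      obtain ⟨j, hj⟩ := exists_pow_eq_self_of_coprime (n := 2 ^ k) (x := π.rangeRestrict ⟨x, hxS⟩) (by
        refine Nat.Coprime.coprime_dvd_right (orderOf_map_dvd π.rangeRestrict ⟨x, hxS⟩) ?_
        rw [Subgroup.orderOf_mk]
        exact (Nat.coprime_two_left.2 hx.2).pow_left k)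
      rw [← hj]
      exact pow_mem hk j
    obtain ⟨⟨z', hzS⟩, hzM, hzz⟩ := hOM z.2
    obtain rfl : z' = (z : G) := hzz
    apply hmove hzS
    have hzM' : π.rangeRestrict ⟨(z : G), hzS⟩ ∈ pPrimeCore 2 π.range := hzM
    have h1 : π.rangeRestrict ⟨(z : G), hzS⟩ = 1 := by
      rw [← orderOf_eq_one_iff]
      refine Nat.eq_one_of_dvd_coprimes (pPrimeCore_coprime (p := 2) (G := π.range))
        (Subgroup.orderOf_dvd_natCard _ hzM') ?_
      refine (orderOf_map_dvd π.rangeRestrict ⟨(z : G), hzS⟩).trans ?_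
      rw [Subgroup.orderOf_mk]
      exact orderOf_dvd_of_pow_eq_one hz2
    exact congrArg Subtype.val h1
  refine OddMax.Sec10.le_pPrimePCore_of_pow_mem (N := C) (fun x hx => ?_)
    (subset_normalClosure (Set.mem_singleton _))
  refine ⟨(orderOf x).factorization 2, (le_pPrimeCore hOodd) (subset_closure ⟨pow_mem hx _, ?_⟩)⟩
  rw [orderOf_pow_of_dvd (pow_ne_zero _ two_ne_zero) (Nat.ordProj_dvd _ _)]
  exact Nat.not_even_iff_odd.1 fun h =>
    Nat.not_dvd_ordCompl Nat.prime_two (orderOf_pos x).ne' (even_iff_two_dvd.1 h)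

end Cfsg.Agent.Lib.GrossTwo
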