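import Cfsg.Agent.Lib.GrossTwo.Component

/-!
# Involutions of exceptional elements commute
-/

set_option autoImplicit false
set_option linter.unusedSectionVars false

namespace Cfsg.Agent.Lib.GrossTwo

open Subgroup Cfsg.Agent.Lib.HallHigmanFermat
open scoped commutatorElement

section

variable {X : Type*} [CommGroup X] [Finite X]

theorem moved_inverted (hX : ¬ 2 ∣ Nat.card X) {y : MulAut X} (hy : y ^ 2 = 1) {x : X}
    (hx : x ∈ moved y) : y x = x⁻¹ := by
  haveI : Fact (Nat.Prime 2) := ⟨Nat.prime_two⟩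
  have hyy : y (y x) = x := by rw [← MulAut.mul_apply, ← pow_two, hy, MulAut.one_apply]
  have h1 : x * y x = 1 := eq_one_of_moved_fixed hX hy
    (mul_mem hx (map_moved (Commute.refl y) hx)) (by rw [map_mul, hyy, mul_comm])
  exact eq_inv_of_mul_eq_one_right h1

theorem eq_one_of_inv_eq_self (hX : ¬ 2 ∣ Nat.card X) {x : X} (hx : x⁻¹ = x) : x = 1 := by
  haveI : Fact (Nat.Prime 2) := ⟨Nat.prime_two⟩
  refine eq_one_of_pow_prime_eq_one hX ?_
  rw [pow_two]
  nth_rw 1 [← hx]
  exact inv_mul_cancel x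

/-- The exceptional configuration cannot be normalised inside an abelian group. -/
theorem false_of_two_eigen_two (hX : ¬ 2 ∣ Nat.card X) {s a v : MulAut X} {m : ℕ}
    (hm : 2 ≤ m) (hv : v ≠ 1) (hvy : Commute v (s ^ 2 ^ (m - 1))) (hva : Commute v a)
    (hvs : Commute v s) (hya : s ^ 2 ^ (m - 1) * a = v * a * s ^ 2 ^ (m - 1))
    (hfix : ∀ x, (s ^ 2 ^ (m - 1)) x = x → s x = x)
    (hab : Commute a (s * a * s⁻¹)) (hs : s ^ 2 ^ m = 1 := by assumption) : False := by
  haveI : Fact (Nat.Prime 2) := ⟨Nat.prime_two⟩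
  set y := s ^ 2 ^ (m - 1) with hy
  have hyp : y ^ 2 = 1 := by rw [hy, ← pow_mul, ← pow_succ, Nat.sub_add_cancel (by omega), hs]
  have hya' : ∀ x, y (a x) = v (a (y x)) := fun x => by
    simpa only [MulAut.mul_apply] using DFunLike.congr_fun hya x
  have hv2 : v ^ 2 = 1 := by
    have h1 : y * y * a = v * v * a * (y * y) := by
      rw [mul_assoc, hya, ← mul_assoc, ← mul_assoc, hvy.symm.eq, mul_assoc v y a, hya]
      simp only [mul_assoc]
    rw [← pow_two, ← pow_two, hyp, one_mul, mul_one] at h1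
    exact mul_eq_right.1 h1.symm
  have hyy : ∀ x, y (y x) = x := fun x => by
    rw [← MulAut.mul_apply, ← pow_two, hyp, MulAut.one_apply]
  have hinv : ∀ x, x ∈ moved v → v x = x⁻¹ := fun x hx => moved_inverted hX hv2 hx
  by_cases hall : ∀ x ∈ moved v, y x = x → x = 1
  · apply hv
    have hyi : ∀ x ∈ moved v, y x = x⁻¹ := fun x hx => by
      have h1 := hall (x * y x) (mul_mem hx (map_moved hvy.symm hx)) (by rw [map_mul, hyy, mul_comm])
      exact eq_inv_of_mul_eq_one_right h1
    have hzero : ∀ x ∈ moved v, x = 1 := by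
      intro x hx
      have hax : a x ∈ moved v := map_moved hva.symm hx
      have h1 := hya' x
      rw [hyi x hx, map_inv, map_inv, hinv _ hax, inv_inv, hyi _ hax] at h1
      exact (EmbeddingLike.map_eq_one_iff (f := a)).1 (eq_one_of_inv_eq_self hX h1)
    refine MulEquiv.ext fun x => ?_
    exact div_eq_one.1 (hzero _ ⟨x, rfl⟩)
  push Not at hall
  obtain ⟨x, hx, hyx, hx1⟩ := hall
  apply hx1
  have hsinv : ∀ w, y w = w → s⁻¹ w = w := fun w hw => by
    conv_lhs => rw [← hfix w hw]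
    rw [← MulAut.mul_apply, inv_mul_cancel, MulAut.one_apply]
  have hzm : a x ∈ moved v := map_moved hva.symm hx
  have hyz : y (a x) = (a x)⁻¹ := by rw [hya', hyx, hinv _ hzm]
  have hsy1 : Commute s y := Commute.self_pow s _
  have hto : ∀ w ∈ moved v, y w = w⁻¹ → y (a w) = a w := fun w hw hyw => by
    rw [hya', hyw, map_inv, map_inv, hinv _ (map_moved hva.symm hw), inv_inv]
  have hsz : s (a x) ∈ moved v ∧ y (s (a x)) = (s (a x))⁻¹ :=
    ⟨map_moved hvs.symm hzm, by
      rw [← MulAut.mul_apply, ← hsy1.eq, MulAut.mul_apply, hyz, map_inv]⟩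
  have hsz' : s⁻¹ (a x) ∈ moved v ∧ y (s⁻¹ (a x)) = (s⁻¹ (a x))⁻¹ :=
    ⟨map_moved hvs.symm.inv_left hzm, by
      rw [← MulAut.mul_apply, ← (hsy1.inv_left).eq, MulAut.mul_apply, hyz, map_inv]⟩
  have h1 := DFunLike.congr_fun hab.eq x
  simp only [MulAut.mul_apply] at h1
  rw [hsinv x hyx, hfix _ (hto _ hsz'.1 hsz'.2)] at h1
  have h2 : s (s (a x)) = a x := by
    conv_lhs => rw [a.injective h1]
    rw [← MulAut.mul_apply, mul_inv_cancel, MulAut.one_apply]
  have h3 : ∀ i, (s ^ (2 * i)) (a x) = a x := by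
    intro i
    induction i with
    | zero => simp
    | succ i ih =>
      rw [mul_add, mul_one, pow_add, MulAut.mul_apply, pow_two, MulAut.mul_apply, h2, ih]
  have h4 : y (a x) = a x := by
    rw [hy, show 2 ^ (m - 1) = 2 * 2 ^ (m - 2) by rw [← pow_succ']; congr 1; omega]
    exact h3 _
  rw [hyz] at h4
  exact (EmbeddingLike.map_eq_one_iff (f := a)).1 (eq_one_of_inv_eq_self hX h4)

variable {p : ℕ} [hp : Fact p.Prime]

/-- `y` centralises abelian normalised subgroups. -/
theorem commute_abelian_two (hX : ¬ p ∣ Nat.card X) (hp2 : p = 2) {D : Type*} [Group D] [Finite D]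
    (hD : IsPGroup p D) (φ : D →* MulAut X) (hφ : Function.Injective φ) (B : Subgroup D) [B.Normal]
    (hB : ∀ a ∈ B, ∀ b ∈ B, a * b = b * a) {s : D} {m : ℕ} (hm : 1 ≤ m) (hs : s ^ p ^ m = 1)
    (hgood : φ (s ^ p ^ (m - 1)) ≠ 1 →
      2 ≤ m ∧ ∀ x, φ (s ^ p ^ (m - 1)) x = x → φ s x = x) {b : D} (hb : b ∈ B) :
    s ^ p ^ (m - 1) * b = b * s ^ p ^ (m - 1) := by
  classical
  set y := s ^ p ^ (m - 1) with hy
  by_contra hne
  have hconjB : ∀ (g : D) {c : D}, c ∈ B → g * c * g⁻¹ ∈ B := fun g c hc =>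
    Subgroup.Normal.conj_mem inferInstance c hc g
  have hmemB : ∀ (g : D) {c : D}, c ∈ B → ⁅g, c⁆ ∈ B := fun g c hc =>
    mul_mem (hconjB g hc) (inv_mem hc)
  -- the last step of the chain of commutators with `y`
  let f : ℕ → D := fun i => (fun c => ⁅y, c⁆)^[i] b
  have hfB : ∀ i, f i ∈ B := by
    intro i
    induction i with
    | zero => exact hb
    | succ i ih => simp only [f, Function.iterate_succ_apply']; exact hmemB y ih
  haveI := hD.isNilpotent
  have hfl : ∀ i, f i ∈ (⊤ : Subgroup D).lowerCentralSeries i := by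
    intro i
    induction i with
    | zero => simp
    | succ i ih =>
      simp only [f, Function.iterate_succ_apply']
      rw [Subgroup.lowerCentralSeries_succ, commutator_comm]
      exact commutator_mem_commutator (mem_top y) ih
  obtain ⟨N, hN⟩ := Subgroup.nilpotent_iff_lowerCentralSeries.1 (inferInstance : Group.IsNilpotent D)
  have hN1 : f N = 1 := by simpa [hN] using hfl N
  have hex : ∃ i, ⁅y, f i⁆ = 1 := ⟨N, by rw [hN1]; exact commutatorElement_one_right y⟩
  obtain ⟨i₀, hi₀⟩ : ∃ i, Nat.find hex = i + 1 := by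
    refine ⟨Nat.find hex - 1, ?_⟩
    have : Nat.find hex ≠ 0 := fun h => hne (by
      have h1 := Nat.find_spec hex
      rw [h] at h1
      exact commutatorElement_eq_one_iff_mul_comm.1 h1)
    omega
  have hlast : ⁅y, f (i₀ + 1)⁆ = 1 := hi₀ ▸ Nat.find_spec hex
  have hnot : ¬ ⁅y, f i₀⁆ = 1 := Nat.find_min hex (by omega)
  -- the subgroup of commutators fixed by `y`
  let R : Subgroup D :=
    { carrier := {v | ∃ c ∈ B, ⁅y, c⁆ = v ∧ ⁅y, v⁆ = 1}
      one_mem' := ⟨1, one_mem B, commutatorElement_one_right y, commutatorElement_one_right y⟩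
      mul_mem' := by
        rintro v w ⟨c, hc, rfl, hcv⟩ ⟨d, hd, rfl, hdw⟩
        refine ⟨c * d, mul_mem hc hd, ?_, ?_⟩
        · rw [commutatorElement_def, commutatorElement_def, commutatorElement_def]
          have e := hB _ (inv_mem hc) _ (hmemB y hd)
          rw [commutatorElement_def] at e
          calc y * (c * d) * y⁻¹ * (c * d)⁻¹ = y * c * y⁻¹ * (y * d * y⁻¹ * d⁻¹ * c⁻¹) := by group
            _ = y * c * y⁻¹ * (c⁻¹ * (y * d * y⁻¹ * d⁻¹)) := by rw [e]
            _ = _ := by group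
        · rw [commutatorElement_eq_one_iff_mul_comm] at hcv hdw ⊢
          exact (Commute.mul_right hcv hdw).eq
      inv_mem' := by
        rintro v ⟨c, hc, rfl, hcv⟩
        refine ⟨c⁻¹, inv_mem hc, ?_, ?_⟩
        · rw [commutatorElement_def, commutatorElement_def]
          have e := hB _ (hconjB y (inv_mem hc)) _ hc
          rw [inv_inv, e]
          group
        · rw [commutatorElement_eq_one_iff_mul_comm] at hcv ⊢
          exact (Commute.inv_right hcv).eq }
  have hRB : R ≤ B := by rintro v ⟨c, hc, rfl, -⟩; exact hmemB y hc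
  have hR0 : R ≠ ⊥ := fun h => hnot (mem_bot.1 (h ▸ (show ⁅y, f i₀⁆ ∈ R from
    ⟨f i₀, hfB i₀, rfl, by simpa [f, Function.iterate_succ_apply'] using hlast⟩)))
  have hsy : Commute s y := Commute.self_pow s _
  have hsy' : s * y * s⁻¹ = y := mul_inv_eq_iff_eq_mul.2 hsy.eq
  have hkey : ∀ x : D, s * ⁅y, x⁆ * s⁻¹ = ⁅y, s * x * s⁻¹⁆ := fun x => by
    rw [← MulAut.conj_apply, map_commutatorElement, MulAut.conj_apply, MulAut.conj_apply, hsy']
  have hRs : ∀ v ∈ R, s * v * s⁻¹ ∈ R := by
    rintro v ⟨c, hc, rfl, hcv⟩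
    refine ⟨s * c * s⁻¹, hconjB s hc, ?_, ?_⟩
    · exact (hkey c).symm
    · rw [← hkey, hcv, mul_one, mul_inv_cancel]
  -- `s` fixes a nontrivial element of `R`
  set L := R ⊔ zpowers s with hL
  have hsn : s ∈ normalizer (R : Set D) := by
    rw [mem_normalizer_iff]
    intro v
    refine ⟨hRs v, fun hv => ?_⟩
    have hit : ∀ i : ℕ, s ^ i * (s * v * s⁻¹) * (s ^ i)⁻¹ ∈ R := by
      intro i
      induction i with
      | zero => simpa using hv
      | succ i ih =>
        have := hRs _ ih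
        rw [pow_succ', mul_inv_rev]
        simpa [mul_assoc] using this
    have := hit (p ^ m - 1)
    have hpos : 1 ≤ p ^ m := Nat.one_le_pow _ _ hp.out.pos
    have e : s ^ (p ^ m - 1) = s⁻¹ :=
      eq_inv_of_mul_eq_one_left (by rw [← pow_succ, Nat.sub_add_cancel hpos, hs])
    rw [e] at this
    simpa [mul_assoc] using this
  haveI : (R.subgroupOf L).Normal :=
    Subgroup.normal_subgroupOf_of_le_normalizer (sup_le Subgroup.le_normalizer (zpowers_le.2 hsn))
  obtain ⟨z, hzR, hzc, hz1⟩ := Lib.Critical.exists_center_mem (hD.to_subgroup L)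
    (N := R.subgroupOf L) (fun h => hR0 (by
      have := subgroupOf_eq_bot.1 h
      exact (disjoint_self.1 (this.mono_right (le_sup_left : R ≤ L)))))
  obtain ⟨c, hc, hcz, hzy⟩ := mem_subgroupOf.1 hzR
  have hzs : (z : D) * s = s * z :=
    (congrArg Subtype.val (mem_center_iff.1 hzc ⟨s, mem_sup_right (mem_zpowers s)⟩)).symm
  have hzc' : (z : D) * c = c * z := hB _ (hRB (mem_subgroupOf.1 hzR)) _ hc
  by_cases hy1 : φ y = 1
  · exact hnot (commutatorElement_eq_one_iff_mul_comm.2 (by
      rw [show y = 1 from hφ (hy1.trans (map_one φ).symm), one_mul, mul_one]))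
  obtain ⟨hm2, hfix⟩ := hgood hy1
  subst hp2
  refine false_of_two_eigen_two (X := X) hX (s := φ s) (a := φ c) (v := φ (z : D)) hm2
    (fun h => hz1 (Subtype.ext (hφ (by rw [h]; simp)))) ?_ ?_ ?_ ?_ (by rwa [← map_pow]) ?_ (by rw [← map_pow, hs, map_one])
  · rw [← map_pow]
    exact (Commute.map (show Commute (z : D) y from
      (commutatorElement_eq_one_iff_mul_comm.1 hzy).symm) φ)
  · exact Commute.map hzc' φ
  · exact Commute.map hzs φ
  · rw [← map_pow, ← map_mul, ← map_mul, ← map_mul]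
    congr 1
    show y * c = z * c * y
    rw [← hcz, commutatorElement_def]
    group
  · rw [← map_inv, ← map_mul, ← map_mul]
    exact Commute.map (hB _ hc _ (hconjB s hc)) φ

end

end Cfsg.Agent.Lib.GrossTwo
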