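import Cfsg.Agent.Lib.HallHigmanFermat.Main

/-!
# A component with a full exceptional element

If `s` has order `p ^ m` on a component and no free cyclic summand there, `s` centralises the part of
`Q` modulo scalars fixed by `s ^ p ^ (m - 1)`.
-/

set_option autoImplicit false
set_option linter.unusedSectionVars false

namespace Cfsg.Agent.Lib.GrossTwo

open Module Subgroup Cfsg.Agent.Lib.HallHigmanB Cfsg.Agent.Lib.HallHigmanFermat
open scoped commutatorElement

variable {K V G : Type*} [Field K] [IsAlgClosed K] [AddCommGroup V] [Module K V]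
  [FiniteDimensional K V] [Group G] [Finite G] {p q : ℕ} [hp : Fact p.Prime] [CharP K p]
  {ρ : G →* Module.End K V} {Q : Subgroup G} {W : Submodule K V}

/-- The commutator of `g` and `h` acts trivially on `W`. -/
def Orth (ρ : G →* Module.End K V) (W : Submodule K V) (g h : G) : Prop :=
  ∀ w ∈ W, ρ ⁅g, h⁆ w = w

theorem Orth.symm {g h : G} (hgh : Orth ρ W g h) : Orth ρ W h g := by
  intro w hw
  rw [← commutatorElement_inv g h]
  conv_lhs => rw [← hgh w hw]
  exact apply_inv_apply ρ _ w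

omit [IsAlgClosed K] [CharP K p] hp in
theorem commutator_mul_right (hcls : ∀ a ∈ Q, ∀ b ∈ Q, ∀ c ∈ Q, ⁅a, b⁆ * c = c * ⁅a, b⁆)
    {g a b : G} (hg : g ∈ Q) (ha : a ∈ Q) (hb : b ∈ Q) : ⁅g, a * b⁆ = ⁅g, a⁆ * ⁅g, b⁆ := by
  have h := hcls g hg b hb a ha
  calc ⁅g, a * b⁆ = ⁅g, a⁆ * (a * ⁅g, b⁆ * a⁻¹) := by simp only [commutatorElement_def]; group
    _ = ⁅g, a⁆ * ⁅g, b⁆ := by rw [← h, mul_inv_cancel_right]

theorem Orth.mul (hcls : ∀ a ∈ Q, ∀ b ∈ Q, ∀ c ∈ Q, ⁅a, b⁆ * c = c * ⁅a, b⁆) {g a b : G}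
    (hg : g ∈ Q) (ha : a ∈ Q) (hb : b ∈ Q) (h1 : Orth ρ W g a) (h2 : Orth ρ W g b) :
    Orth ρ W g (a * b) := by
  intro w hw
  rw [commutator_mul_right hcls hg ha hb, map_mul, Module.End.mul_apply, h2 w hw, h1 w hw]

theorem orth_scalar (hW : IrredSub ρ Q W) {g : G} (hg : g ∈ Q) (a : Q)
    (ha : a ∈ scalarSub hW.2.1) : Orth ρ W g a := by
  obtain ⟨c, hc⟩ := mem_scalarSub.1 ha
  intro w hw
  set z := ρ g⁻¹ (ρ (a : G)⁻¹ w) with hz
  have hz1 : ρ (a : G)⁻¹ w ∈ W := hW.2.1 _ (inv_mem a.2) w hw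
  rw [commutatorElement_def, map_mul, map_mul, map_mul, Module.End.mul_apply, Module.End.mul_apply,
    Module.End.mul_apply, hc z (hW.2.1 _ (inv_mem hg) _ hz1), hz, map_smul, apply_apply_inv,
    ← hc _ hz1, apply_apply_inv]

theorem orth_congr (hW : IrredSub ρ Q W) (hcls : ∀ a ∈ Q, ∀ b ∈ Q, ∀ c ∈ Q, ⁅a, b⁆ * c = c * ⁅a, b⁆)
    {g : G} (hg : g ∈ Q) {a b : Q} (hab : (a : Q ⧸ scalarSub hW.2.1) = b)
    (h : Orth ρ W g a) : Orth ρ W g b := by
  have hz := QuotientGroup.eq.1 hab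
  have h1 := Orth.mul hcls hg a.2 (a⁻¹ * b).2 h (orth_scalar hW hg _ hz)
  simpa using h1

theorem mem_scalarSub_of_orth (hW : IrredSub ρ Q W) (g : Q) (h : ∀ k : Q, Orth ρ W (k : G) g) :
    g ∈ scalarSub hW.2.1 := by
  haveI : Nontrivial W := Submodule.nontrivial_iff_ne_bot.2 hW.1
  refine (isIrred_restrictRep hW).exists_scalar _ fun k => LinearMap.ext fun w => Subtype.ext ?_
  show ρ g (ρ k w) = ρ k (ρ g w)
  have h1 := h k (ρ g (ρ k w)) (hW.2.1 _ g.2 _ (hW.2.1 _ k.2 w w.2))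
  rw [← Module.End.mul_apply, ← map_mul] at h1
  refine h1.symm.trans ?_
  rw [← Module.End.mul_apply, ← map_mul, ← Module.End.mul_apply, ← map_mul, commutatorElement_def]
  congr 2
  group

/-- The moved part commutes with the fixed part. -/
theorem orth_moved (hW : IrredSub ρ Q W)
    (hcls : ∀ a ∈ Q, ∀ b ∈ Q, ∀ c ∈ Q, ⁅a, b⁆ * c = c * ⁅a, b⁆) {Y : G}
    (hY : Y ∈ classStab ρ hW) {g h : Q}
    (hg : letI := classCommGroup hW hcls
      (g : Q ⧸ scalarSub hW.2.1) ∈ moved (X := Q ⧸ scalarSub hW.2.1) (classAction hW ⟨Y, hY⟩))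
    (hh : classAction hW ⟨Y, hY⟩ (h : Q ⧸ scalarSub hW.2.1) = h) :
    Orth ρ W (h : G) g := by
  letI := classCommGroup hW hcls
  obtain ⟨x, hx⟩ := hg
  induction x using QuotientGroup.induction_on with
  | _ g' =>
  set cj : Q → Q := fun a => ⟨Y * a * Y⁻¹, conj_mem hY.1 a.2⟩ with hcj
  have hcj' : ∀ a : Q, classAction hW ⟨Y, hY⟩ (a : Q ⧸ scalarSub hW.2.1) = cj a := fun a =>
    classAction_mk hW _ a
  haveI : Nontrivial W := Submodule.nontrivial_iff_ne_bot.2 hW.1
  set d : Q := h * g' * h⁻¹ * g'⁻¹ with hd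
  have hdsc : d ∈ scalarSub hW.2.1 := by
    rw [← QuotientGroup.eq_one_iff]
    simp only [hd, QuotientGroup.mk_mul, QuotientGroup.mk_inv]
    rw [mul_comm (h : Q ⧸ scalarSub hW.2.1) g', mul_inv_cancel_right, mul_inv_cancel]
  obtain ⟨c, hc⟩ := mem_scalarSub.1 hdsc
  have hcY := scalar_conj hW hY.1 hY.2 d.2 hc
  have hcomm : ∀ w ∈ W, ρ ⁅(h : G), (g' : G)⁆ w = c • w := fun w hw => hc w hw
  have hcommY : ∀ w ∈ W, ρ ⁅(h : G), (cj g' : G)⁆ w = c • w := by
    have hz : (h⁻¹ * cj h : Q) ∈ scalarSub hW.2.1 := by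
      rw [← QuotientGroup.eq, ← hcj', hh]
    intro w hw
    have e : ⁅(cj g' : G), (cj h : G)⁆ = ⁅(cj g' : G), (h : G)⁆ * ⁅(cj g' : G), ((h⁻¹ * cj h : Q) : G)⁆ := by
      rw [← commutator_mul_right hcls (cj g').2 h.2 (h⁻¹ * cj h).2]; simp
    have e' := congrArg (fun z : G => z⁻¹) e
    simp only [mul_inv_rev, commutatorElement_inv] at e'
    have ho : ∀ v ∈ W, ρ ⁅((h⁻¹ * cj h : Q) : G), (cj g' : G)⁆ v = v :=
      (orth_scalar hW (cj g').2 _ hz).symm
    have h2 := hcY w hw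
    have eY : Y * (d : G) * Y⁻¹ = ⁅(cj h : G), (cj g' : G)⁆ := by
      simp [hd, hcj, commutatorElement_def, mul_assoc]
    rw [eY, e', map_mul, Module.End.mul_apply] at h2
    have hmem : ρ ⁅(h : G), (cj g' : G)⁆ w ∈ W := hW.2.1 _
      (mul_mem (mul_mem (mul_mem h.2 (cj g').2) (inv_mem h.2)) (inv_mem (cj g').2)) w hw
    rw [ho _ hmem] at h2
    exact h2
  have hgw : (g : Q ⧸ scalarSub hW.2.1) = ((cj g' * g'⁻¹ : Q) : Q ⧸ scalarSub hW.2.1) := by
    rw [← hx]
    show classAction hW ⟨Y, hY⟩ (g' : Q ⧸ scalarSub hW.2.1) / (g' : Q ⧸ scalarSub hW.2.1) = _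
    rw [hcj', div_eq_mul_inv]
    rfl
  refine orth_congr hW hcls h.2 hgw.symm ?_
  intro w hw
  show ρ ⁅(h : G), (cj g' : G) * (g' : G)⁻¹⁆ w = w
  rw [commutator_mul_right hcls h.2 (cj g').2 (inv_mem g'.2), map_mul, Module.End.mul_apply]
  have hinv : ρ ⁅(h : G), (g' : G)⁻¹⁆ (c • w) = w := by
    have e : ⁅(h : G), (g' : G)⁻¹⁆ * ⁅(h : G), (g' : G)⁆ = 1 := by
      rw [← commutator_mul_right hcls h.2 (inv_mem g'.2) g'.2, inv_mul_cancel,
        commutatorElement_one_right]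
    rw [← hcomm w hw, ← Module.End.mul_apply, ← map_mul, e, map_one, Module.End.one_apply]
  have hmem : ρ ⁅(h : G), (g' : G)⁻¹⁆ w ∈ W := hW.2.1 _
    (mul_mem (mul_mem (mul_mem h.2 (inv_mem g'.2)) (inv_mem h.2)) (inv_mem (inv_mem g'.2))) w hw
  rw [hcommY _ hmem, ← map_smul, hinv]

theorem card_ne_zero [Fact q.Prime] (hqp : q ≠ p) (hQq : IsPGroup q Q) :
    (Nat.card Q : K) ≠ 0 := by
  obtain ⟨k, hk⟩ := hQq.exists_card_eq
  rw [hk, Nat.cast_pow]
  refine pow_ne_zero _ fun h => hqp ?_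
  exact ((Nat.prime_dvd_prime_iff_eq hp.out Fact.out).1 ((CharP.cast_eq_zero_iff K p q).1 h)).symm

set_option maxHeartbeats 2000000 in
theorem component [Fact q.Prime] (hqp : q ≠ p) (hQq : IsPGroup q Q) (hW : IrredSub ρ Q W)
    (hcls : ∀ a ∈ Q, ∀ b ∈ Q, ∀ c ∈ Q, ⁅a, b⁆ * c = c * ⁅a, b⁆)
    {s : G} (hs : s ∈ classStab ρ hW) {U : Submodule K V} (hU : IrredSub ρ Q U)
    (hWU : Linked ρ Q W U) (hsU : ∀ u ∈ U, ρ s u ∈ U) {m : ℕ} (hm : 1 ≤ m) (hsm : s ^ p ^ m = 1)
    (hnil : ∀ u ∈ U, ((ρ s - 1) ^ (p ^ m - 1)) u = 0)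
    (hbot : letI := classCommGroup hW hcls
      moved (X := Q ⧸ scalarSub hW.2.1) (classAction hW ⟨s, hs⟩ ^ p ^ (m - 1)) ≠ ⊥) :
    letI := classCommGroup hW hcls
    (∀ x, (classAction hW ⟨s, hs⟩ ^ p ^ (m - 1)) x = x → classAction hW ⟨s, hs⟩ x = x) ∧
      ∃ b : ℕ, p ^ m - 1 = q ^ b ∧
        Nat.card (moved (X := Q ⧸ scalarSub hW.2.1) (classAction hW ⟨s, hs⟩ ^ p ^ (m - 1))) ≤ (q ^ b) ^ 2 := by
  have hQ : (Nat.card Q : K) ≠ 0 := card_ne_zero hqp hQq
  classical
  letI := classCommGroup hW hcls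
  have hp' := hp.out
  set θ := classAction hW ⟨s, hs⟩ with hθ
  set y := θ ^ p ^ (m - 1) with hy
  set Y := s ^ p ^ (m - 1) with hY
  have hθpow : ∀ (k : ℕ) (g : Q), (θ ^ k) (g : Q ⧸ scalarSub hW.2.1) =
      ((⟨s ^ k * g * (s ^ k)⁻¹, conj_mem (pow_mem hs.1 k) g.2⟩ : Q) : Q ⧸ scalarSub hW.2.1) := by
    intro k g
    rw [hθ, ← map_pow]
    exact classAction_mk hW _ g
  have hX : ¬ p ∣ Nat.card (Q ⧸ scalarSub hW.2.1) :=
    fun h => not_dvd_of_cast_ne_zero (p := p) hQ (h.trans (card_quotient_dvd_card _))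
  have hθm : θ ^ p ^ m = 1 := by
    rw [hθ, ← map_pow, show (⟨s, hs⟩ : classStab ρ hW) ^ p ^ m = 1 from Subtype.ext (by simpa using hsm),
      map_one]
  have hyp : y ^ p = 1 := by
    rw [hy, ← pow_mul, ← pow_succ, Nat.sub_add_cancel hm, hθm]
  haveI : Nontrivial U := Submodule.nontrivial_iff_ne_bot.2 hU.1
  -- scalars on `U`
  have hscU : ∀ g : Q, g ∈ scalarSub hW.2.1 → ∃ c : K, ∀ u ∈ U, ρ g u = c • u := by
    intro g hg
    obtain ⟨c, hc⟩ := mem_scalarSub.1 hg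
    exact ⟨c, scalar_of_linked hW hU hWU g.2 hc⟩
  set σ := restrictRep hU.2.1 with hσ
  have hscσ : ∀ g : Q, g ∈ scalarSub hW.2.1 → ∃ c : K, σ g = c • 1 := fun g hg => by
    obtain ⟨c, hc⟩ := hscU g hg
    exact ⟨c, LinearMap.ext fun u => Subtype.ext (hc u u.2)⟩
  have hσne : ∀ g, σ g ≠ 0 := fun g h => by
    have h1 := map_mul σ g⁻¹ g
    rw [inv_mul_cancel, map_one, h, mul_zero] at h1
    exact one_ne_zero h1
  have hsUmap : U.map (ρ s) = U := map_eq_self_of_irred hU hs.1 hsU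
  have hYU : U.map (ρ Y) = U := by
    have h := map_pow_mul_eq (ρ := ρ) (W := U) (t := s) (j := 1) (by rw [pow_one]; exact hsUmap)
      (p ^ (m - 1))
    rwa [one_mul] at h
  -- the moved part commutes with the fixed part
  have horth : ∀ (g h : Q), (g : Q ⧸ scalarSub hW.2.1) ∈ moved (X := Q ⧸ scalarSub hW.2.1) y →
      y (h : Q ⧸ scalarSub hW.2.1) = h → σ (h * g * h⁻¹) = σ g := by
    intro g h hg hh
    have ho : Orth ρ W (h : G) (g : G) := by
      refine orth_moved hW hcls (pow_mem (⟨s, hs⟩ : classStab ρ hW).2 (p ^ (m - 1))) ?_ ?_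
      · rwa [show (⟨s ^ p ^ (m - 1), _⟩ : classStab ρ hW) = ⟨s, hs⟩ ^ p ^ (m - 1) from rfl, map_pow]
      · rwa [show (⟨s ^ p ^ (m - 1), _⟩ : classStab ρ hW) = ⟨s, hs⟩ ^ p ^ (m - 1) from rfl, map_pow]
    refine LinearMap.ext fun u => Subtype.ext ?_
    have hcQ : ⁅(h : G), (g : G)⁆ ∈ Q := mul_mem (mul_mem (mul_mem h.2 g.2) (inv_mem h.2)) (inv_mem g.2)
    have h1 := scalar_of_linked hW hU hWU hcQ (c := (1 : K)) (fun w hw => by rw [one_smul]; exact ho w hw)
      (ρ (g : G) u) (hU.2.1 _ g.2 u u.2)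
    rw [one_smul, ← Module.End.mul_apply, ← map_mul, commutatorElement_def, inv_mul_cancel_right] at h1
    exact h1
  -- the stabiliser of `U`
  let St : Subgroup G :=
    { carrier := {g | U.map (ρ g) = U}
      mul_mem' := fun {a b} ha hb => by
        show U.map (ρ (a * b)) = U
        rw [← map_map_mul, hb, ha]
      one_mem' := by
        show U.map (ρ 1) = U
        rw [map_one, Module.End.one_eq_id, Submodule.map_id]
      inv_mem' := fun {a} ha => by
        show U.map (ρ a⁻¹) = U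
        conv_lhs => rw [← (ha : U.map (ρ a) = U)]
        exact map_map_inv ρ U a }
  have hQSt : ∀ g ∈ Q, g ∈ St := fun g hg =>
    map_eq_self_of_irred hU (Subgroup.le_normalizer hg) (fun u hu => hU.2.1 g hg u hu)
  have hsSt : s ∈ St := hsUmap
  let ρU : St →* Module.End K U :=
    { toFun := fun g => (ρ g).restrict (fun u hu => (g.2 : U.map (ρ g) = U) ▸ Submodule.mem_map_of_mem hu)
      map_one' := by ext u; simp [LinearMap.restrict_apply]
      map_mul' := fun a b => by ext u; simp [LinearMap.restrict_apply] }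
  have hρU : ∀ (g : Q), ρU ⟨g, hQSt g g.2⟩ = σ g := fun g => rfl
  set Q₁ : Subgroup G := ((moved (X := Q ⧸ scalarSub hW.2.1) y).comap (QuotientGroup.mk' (scalarSub hW.2.1))).map Q.subtype with hQ₁
  have hmem₁ : ∀ {g : G}, g ∈ Q₁ ↔ ∃ hg : g ∈ Q, ((⟨g, hg⟩ : Q) : Q ⧸ scalarSub hW.2.1) ∈ moved (X := Q ⧸ scalarSub hW.2.1) y := by
    intro g
    constructor
    · rintro ⟨g, hg, rfl⟩
      exact ⟨g.2, hg⟩
    · rintro ⟨hg, h⟩
      exact ⟨⟨g, hg⟩, h, rfl⟩
  set Q₁' : Subgroup St := Q₁.subgroupOf St with hQ₁'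
  have hQ₁n : ∀ (g : G), g ∈ Q → g ∈ normalizer (Q₁ : Set G) := by
    have key : ∀ g ∈ Q, ∀ x ∈ Q₁, g * x * g⁻¹ ∈ Q₁ := by
      intro g hg x hx
      obtain ⟨hxQ, hxm⟩ := hmem₁.1 hx
      refine hmem₁.2 ⟨mul_mem (mul_mem hg hxQ) (inv_mem hg), ?_⟩
      rw [show (⟨g * x * g⁻¹, mul_mem (mul_mem hg hxQ) (inv_mem hg)⟩ : Q) =
          ⟨g, hg⟩ * ⟨x, hxQ⟩ * ⟨g, hg⟩⁻¹ from rfl, QuotientGroup.mk_mul, QuotientGroup.mk_mul,
        QuotientGroup.mk_inv, mul_comm ((⟨g, hg⟩ : Q) : Q ⧸ scalarSub hW.2.1), mul_inv_cancel_right]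
      exact hxm
    intro g hg
    rw [mem_normalizer_iff]
    exact fun x => ⟨key g hg x, fun h => by simpa [mul_assoc] using key _ (inv_mem hg) _ h⟩
  have hsQ₁ : s ∈ normalizer (Q₁ : Set G) := by
    have key : ∀ t : classStab ρ hW, Commute (classAction hW t) y →
        ∀ x ∈ Q₁, (t : G) * x * (t : G)⁻¹ ∈ Q₁ := by
      intro t htc x hx
      obtain ⟨hxQ, hxm⟩ := hmem₁.1 hx
      refine hmem₁.2 ⟨conj_mem t.2.1 hxQ, ?_⟩
      exact classAction_mk hW t ⟨x, hxQ⟩ ▸ map_moved htc hxm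
    have hc : Commute θ y := Commute.self_pow θ _
    rw [mem_normalizer_iff]
    refine fun x => ⟨key ⟨s, hs⟩ hc x, fun h => ?_⟩
    have h2 := key ⟨s, hs⟩⁻¹ (by rw [map_inv]; exact hc.inv_left) _ h
    simpa [mul_assoc] using h2
  have hnorm : ∀ g : St, (g : G) ∈ normalizer (Q₁ : Set G) → g ∈ normalizer (Q₁' : Set St) := by
    intro g hg
    rw [mem_normalizer_iff] at hg ⊢
    intro x
    simpa [hQ₁', mem_subgroupOf] using hg (x : G)
  -- an irreducible subspace of `U` for the moved part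
  obtain ⟨U₁, -, hU₁⟩ := exists_irredSub (ρ := ρU) (Q := Q₁') (W := ⊤) top_ne_bot
    fun g _ v _ => Submodule.mem_top
  haveI := Fintype.ofFinite Q
  let q₀ : Q → St := fun g => ⟨g, hQSt g g.2⟩
  have hqn : ∀ g : Q, q₀ g ∈ normalizer (Q₁' : Set St) := fun g => hnorm _ (hQ₁n g g.2)
  set S := (Finset.univ : Finset Q).sup fun g => U₁.map (ρU (q₀ g)) with hS
  have hStop : S = ⊤ := by
    have hSinv : Invt ρ Q (S.map U.subtype) := by
      rintro g hg _ ⟨u, hu, rfl⟩
      refine ⟨ρU (q₀ ⟨g, hg⟩) u, ?_, rfl⟩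
      have : S ≤ S.comap (ρU (q₀ ⟨g, hg⟩)) := Finset.sup_le fun i _ => by
        rw [← Submodule.map_le_iff_le_comap, map_map_mul]
        exact Finset.le_sup (f := fun g => U₁.map (ρU (q₀ g))) (Finset.mem_univ (⟨g, hg⟩ * i))
      exact this hu
    rcases hU.2.2 _ (Submodule.map_subtype_le _ _) hSinv with h | h
    · refine absurd ?_ hU₁.1
      rw [eq_bot_iff]
      refine le_trans (le_trans ?_ (Finset.le_sup (f := fun g => U₁.map (ρU (q₀ g)))
        (Finset.mem_univ 1))) ?_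
      · rw [show q₀ 1 = 1 from rfl, map_one, Module.End.one_eq_id, Submodule.map_id]
      · intro u hu
        have : (u : V) ∈ S.map U.subtype := ⟨u, hu, rfl⟩
        rw [h, Submodule.mem_bot] at this
        exact Subtype.ext this
    · rw [eq_top_iff]
      intro u _
      have : (u : V) ∈ S.map U.subtype := h.symm ▸ u.2
      obtain ⟨u', hu', he⟩ := this
      rwa [← Subtype.ext he]
  have hlink : ∀ g : Q, Linked ρU Q₁' U₁ (U₁.map (ρU (q₀ g))) := by
    intro g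
    obtain ⟨a, ha, b, hb, hab⟩ := exists_decomp hX hyp (g : Q ⧸ scalarSub hW.2.1)
    induction b using QuotientGroup.induction_on with
    | _ h =>
    have hgh : ((g * h⁻¹ : Q) : Q ⧸ scalarSub hW.2.1) ∈ moved (X := Q ⧸ scalarSub hW.2.1) y := by
      rw [QuotientGroup.mk_mul, QuotientGroup.mk_inv, hab, mul_inv_cancel_right]
      exact ha
    have hmem : q₀ (g * h⁻¹) ∈ Q₁' := hmem₁.2 ⟨(g * h⁻¹).2, hgh⟩
    have hlk : Linked ρU Q₁' U₁ (U₁.map (ρU (q₀ h))) := by
      refine ⟨(ρU (q₀ h)).comp U₁.subtype, fun h0 => hU₁.1 ?_, ?_, fun x hx w hw => ?_⟩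
      · rw [eq_bot_iff]
        intro u hu
        have h1 := congrArg (ρU (q₀ h)⁻¹) (LinearMap.congr_fun h0 ⟨u, hu⟩)
        simpa [apply_inv_apply] using h1
      · rintro _ ⟨u, rfl⟩
        exact Submodule.mem_map_of_mem u.2
      · obtain ⟨hxQ, hxm⟩ := hmem₁.1 hx
        have h1 := horth ⟨x, hxQ⟩ h hxm hb
        simp only [LinearMap.comp_apply, Submodule.subtype_apply]
        rw [← Module.End.mul_apply, ← Module.End.mul_apply, ← map_mul, ← map_mul,
          show q₀ h * x = (q₀ h * x * (q₀ h)⁻¹) * q₀ h by group, map_mul,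
          show ρU (q₀ h * x * (q₀ h)⁻¹) = ρU x from h1, ← map_mul]
    have e : U₁.map (ρU (q₀ g)) = U₁.map (ρU (q₀ h)) := by
      have hi : Invt ρU Q₁' (U₁.map (ρU (q₀ h))) := (irredSub_map (hqn h) hU₁).2.1
      rw [show q₀ g = q₀ (g * h⁻¹) * q₀ h from Subtype.ext (by simp [q₀]), ← map_map_mul]
      exact map_eq_self_of_irred (irredSub_map (hqn h) hU₁) (Subgroup.le_normalizer hmem)
        fun u hu => hi _ hmem u hu
    rw [e]
    exact hlk
  set s' : St := ⟨s, hsSt⟩ with hs'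
  have hs'n : s' ∈ normalizer (Q₁' : Set St) := hnorm _ hsQ₁
  obtain ⟨g₀, -, hg₀⟩ := exists_linked_of_le_sup (irredSub_map hs'n hU₁)
    (fun g => U₁.map (ρU (q₀ g))) Finset.univ (fun g _ => irredSub_map (hqn g) hU₁)
    (by rw [← hS, hStop]; exact le_top)
  have hlk : Linked ρU Q₁' U₁ (U₁.map (ρU s')) :=
    Linked.trans hU₁ (irredSub_map (hqn g₀) hU₁) (hlink g₀)
      (hg₀.symm (irredSub_map hs'n hU₁) (irredSub_map (hqn g₀) hU₁))
  obtain ⟨U₂, hU₂, -, hU₂s⟩ := exists_invariant_copy hU₁ hs'n hlk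
  haveI : Nontrivial U₂ := Submodule.nontrivial_iff_ne_bot.2 hU₂.1
  set σ₂ := restrictRep hU₂.2.1 with hσ₂
  let emb : Q₁' → Q := fun g => ⟨((g : St) : G), (hmem₁.1 g.2).1⟩
  have hembm : ∀ g : Q₁', ((emb g : Q) : Q ⧸ scalarSub hW.2.1) ∈ moved (X := Q ⧸ scalarSub hW.2.1) y := fun g => (hmem₁.1 g.2).2
  let f₁ : Q₁' →* Q ⧸ scalarSub hW.2.1 :=
    (QuotientGroup.mk' (scalarSub hW.2.1)).comp (MonoidHom.mk' emb fun a b => rfl)
  have hrange : f₁.range = moved (X := Q ⧸ scalarSub hW.2.1) y := by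
    refine le_antisymm ?_ ?_
    · rintro _ ⟨g, rfl⟩; exact hembm g
    · intro x hx
      induction x using QuotientGroup.induction_on with
      | _ g => exact ⟨⟨q₀ g, hmem₁.2 ⟨g.2, hx⟩⟩, rfl⟩
  have hsc₂ : ∀ g h : Q₁', ∃ c : K, σ₂ (h * g * h⁻¹) = c • σ₂ g := by
    intro g h
    have hdZ : emb h * emb g * (emb h)⁻¹ * (emb g)⁻¹ ∈ scalarSub hW.2.1 := by
      rw [← QuotientGroup.eq_one_iff]
      simp only [QuotientGroup.mk_mul, QuotientGroup.mk_inv]
      rw [mul_comm (emb h : Q ⧸ scalarSub hW.2.1), mul_inv_cancel_right, mul_inv_cancel]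
    obtain ⟨c, hc⟩ := hscU _ hdZ
    refine ⟨c, LinearMap.ext fun u => Subtype.ext (Subtype.ext ?_)⟩
    have h1 := hc _ (ρU (g : St) (u : U)).2
    show ρ ((h : St) * (g : St) * ((h : St))⁻¹ : G) ((u : U) : V) = c • ρ ((g : St) : G) ((u : U) : V)
    have h1' : ρ ((emb h * emb g * (emb h)⁻¹ * (emb g)⁻¹ : Q) : G) (ρ ((g : St) : G) ((u : U) : V)) =
        c • ρ ((g : St) : G) ((u : U) : V) := h1
    rw [← Module.End.mul_apply, ← map_mul] at h1'
    refine Eq.trans ?_ h1'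
    congr 2
    simp [emb, mul_assoc]
  have hfaith : ∀ g : Q₁', (∀ h : Q₁', σ₂ (h * g * h⁻¹) = σ₂ g) → f₁ g = 1 := by
    intro g hg
    show ((emb g : Q) : Q ⧸ scalarSub hW.2.1) = 1
    rw [QuotientGroup.eq_one_iff]
    suffices hcen : ∀ k : Q, σ (k * emb g * k⁻¹) = σ (emb g) by
      obtain ⟨c, hc⟩ := (isIrred_restrictRep hU).exists_scalar (σ (emb g)) fun k => by
        have h1 := hcen k
        rw [map_mul] at h1
        have h2 := congrArg (fun f => f * σ k) h1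
        simp only [mul_assoc, ← map_mul, inv_mul_cancel, mul_one] at h2
        rw [← map_mul, ← map_mul]
        exact h2.symm
      refine mem_scalarSub.2 ⟨c, scalar_of_linked hU hW (hWU.symm hW hU) (emb g).2 fun u hu => ?_⟩
      exact congrArg Subtype.val (LinearMap.congr_fun hc ⟨u, hu⟩)
    intro k
    obtain ⟨a, ha, b, hb, hab⟩ := exists_decomp hX hyp (k : Q ⧸ scalarSub hW.2.1)
    induction b using QuotientGroup.induction_on with
    | _ h =>
    have hkh : ((k * h⁻¹ : Q) : Q ⧸ scalarSub hW.2.1) ∈ moved (X := Q ⧸ scalarSub hW.2.1) y := by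
      rw [QuotientGroup.mk_mul, QuotientGroup.mk_inv, hab, mul_inv_cancel_right]
      exact ha
    set k₁ : Q₁' := ⟨q₀ (k * h⁻¹), hmem₁.2 ⟨(k * h⁻¹).2, hkh⟩⟩ with hk₁
    have hdZ : (k * h⁻¹) * emb g * (k * h⁻¹)⁻¹ * (emb g)⁻¹ ∈ scalarSub hW.2.1 := by
      rw [← QuotientGroup.eq_one_iff]
      simp only [QuotientGroup.mk_mul, QuotientGroup.mk_inv]
      rw [mul_comm ((k : Q ⧸ scalarSub hW.2.1) * (h : Q ⧸ scalarSub hW.2.1)⁻¹), mul_inv_cancel_right, mul_inv_cancel]
    obtain ⟨c, hc⟩ := hscU _ hdZ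
    have e1 : σ ((k * h⁻¹) * emb g * (k * h⁻¹)⁻¹) = c • σ (emb g) := by
      rw [show (k * h⁻¹) * emb g * (k * h⁻¹)⁻¹ =
        (k * h⁻¹) * emb g * (k * h⁻¹)⁻¹ * (emb g)⁻¹ * emb g by group, map_mul]
      refine LinearMap.ext fun u => Subtype.ext ?_
      exact hc _ (σ (emb g) u).2
    have hc1 : c = 1 := by
      obtain ⟨u, hu⟩ := exists_ne (0 : U₂)
      have h1 := hg k₁
      have h2 : σ₂ (k₁ * g * k₁⁻¹) = c • σ₂ g := by
        refine LinearMap.ext fun w => Subtype.ext ?_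
        exact LinearMap.congr_fun e1 (w : U)
      rw [h1] at h2
      have h3 := congrArg (fun f => f * σ₂ g⁻¹) h2
      simp only [smul_mul_assoc, ← map_mul, mul_inv_cancel, map_one] at h3
      have h4 : (c - 1) • u = 0 := by
        have h5 : c • u = u := (LinearMap.congr_fun h3 u).symm
        apply Subtype.ext
        apply Subtype.ext
        show (c - 1) • (((u : U)) : V) = 0
        have h6 : c • (((u : U)) : V) = ((u : U) : V) := congrArg (fun x : U₂ => ((x : U) : V)) h5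
        rw [_root_.sub_smul, one_smul, h6, sub_self]
      exact sub_eq_zero.1 ((smul_eq_zero.1 h4).resolve_right hu)
    rw [hc1, one_smul] at e1
    calc σ (k * emb g * k⁻¹) = σ (k * h⁻¹ * (h * emb g * h⁻¹) * (k * h⁻¹)⁻¹) := by
          congr 1; group
      _ = σ (k * h⁻¹ * emb g * (k * h⁻¹)⁻¹) := by
          rw [map_mul, map_mul, horth _ h (hembm g) hb, ← map_mul, ← map_mul]
      _ = σ (emb g) := e1
  have hidx : f₁.ker.index = Nat.card (moved (X := Q ⧸ scalarSub hW.2.1) y) := by rw [Subgroup.index_ker, hrange]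
  have hQ₂ : (Nat.card Q₁' : K) ≠ 0 := by
    intro h
    apply hQ
    have hinj : Function.Injective (MonoidHom.mk' emb fun a b => rfl) := fun a b hab => by
      exact Subtype.ext (Subtype.ext (congrArg Subtype.val hab :))
    obtain ⟨k, hk⟩ := Subgroup.card_dvd_of_injective _ hinj
    rw [hk, Nat.cast_mul, h, zero_mul]
  set A : Module.End K U₂ := (ρU s').restrict hU₂s with hA
  have hApow : ∀ (k : ℕ) (u : U₂), (((A ^ k) u : U) : V) = ρ (s ^ k) ((u : U) : V) := by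
    intro k
    induction k with
    | zero => intro u; simp
    | succ k ih =>
      intro u
      rw [pow_succ, Module.End.mul_apply, ih, pow_succ, map_mul, Module.End.mul_apply]
      rfl
  set θ₂ : MulAut Q₁' := normalizerMonoidHom Q₁' ⟨s', hs'n⟩ with hθ₂
  have hθ₂app : ∀ (k : ℕ) (g : Q₁'), (((θ₂ ^ k) g : St) : G) = s ^ k * (g : St) * (s ^ k)⁻¹ := by
    intro k g
    rw [hθ₂, ← map_pow, normalizerMonoidHom_apply_apply_coe]
    simp [hs']
  have hAσ : ∀ g, A * σ₂ g = σ₂ (θ₂ g) * A := fun g => by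
    refine LinearMap.ext fun u => Subtype.ext (Subtype.ext ?_)
    show ρ s (ρ ((g : St) : G) ((u : U) : V)) = ρ ((θ₂ g : St) : G) (ρ s ((u : U) : V))
    have h1 := hθ₂app 1 g
    rw [pow_one, pow_one] at h1
    rw [h1, ← Module.End.mul_apply, ← Module.End.mul_apply, ← map_mul, ← map_mul,
      inv_mul_cancel_right]
  have hAN : A ^ p ^ m = 1 := by
    refine LinearMap.ext fun u => Subtype.ext (Subtype.ext ?_)
    rw [hApow, hsm, map_one]
    rfl
  have hθN : θ₂ ^ p ^ m = 1 := by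
    refine MulEquiv.ext fun g => Subtype.ext (Subtype.ext ?_)
    rw [hθ₂app, hsm, one_mul, inv_one, mul_one, MulAut.one_apply]
  have hfix : ∀ (k : ℕ) (g : Q₁'), (θ₂ ^ k) g = g → (θ ^ k) (f₁ g) = f₁ g := by
    intro k g hg
    show (θ ^ k) ((emb g : Q) : Q ⧸ scalarSub hW.2.1) = ((emb g : Q) : Q ⧸ scalarSub hW.2.1)
    rw [hθpow]
    congr 1
    apply Subtype.ext
    show s ^ k * ((g : St) : G) * (s ^ k)⁻¹ = ((g : St) : G)
    rw [← hθ₂app, hg]
  have hker : ∀ g : Q₁', f₁ g = 1 → ∃ c : K, σ₂ g = c • 1 := by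
    intro g hg
    obtain ⟨c, hc⟩ := hscU (emb g) ((QuotientGroup.eq_one_iff _).1 hg)
    exact ⟨c, LinearMap.ext fun u => Subtype.ext (Subtype.ext (hc _ (u : U).2))⟩
  have hfree : ∀ g, (∀ c : K, σ₂ g ≠ c • 1) → ∀ k, 0 < k → k < p ^ m → (θ₂ ^ k) g ≠ g := by
    intro g hg k hk hkm hfx
    have h1 : y (f₁ g) = f₁ g := moved_pow_eq_self_iff hm hθm hk hkm (hfix k g hfx)
    obtain ⟨c, hc⟩ := hker g (eq_one_of_moved_fixed hX hyp (hembm g) h1)
    exact hg c hc
  have hA1 : A ≠ 1 := by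
    intro h1
    apply hbot
    rw [eq_bot_iff]
    intro x hx
    rw [mem_bot]
    obtain ⟨g, rfl⟩ : x ∈ f₁.range := hrange ▸ hx
    refine eq_one_of_moved_fixed hX hyp hx ?_
    have h2 : ∀ h, σ₂ ((θ₂ ^ p ^ (m - 1)) h) = σ₂ h := fun h => by
      have := pow_mul_sigma hAσ (p ^ (m - 1)) h
      rwa [h1, one_pow, one_mul, mul_one, eq_comm] at this
    set d : Q₁' := (θ₂ ^ p ^ (m - 1)) g * g⁻¹ with hd
    have hd1 : σ₂ d = 1 := by
      rw [hd, map_mul, h2, ← map_mul, mul_inv_cancel, map_one]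
    have hd2 : f₁ d = 1 := hfaith d fun h => by
      rw [map_mul, map_mul, hd1, mul_one, ← map_mul, mul_inv_cancel, map_one]
    rw [hd, map_mul, map_inv, mul_inv_eq_one] at hd2
    refine Eq.trans ?_ hd2
    show y ((emb g : Q) : Q ⧸ scalarSub hW.2.1) =
      ((emb ((θ₂ ^ p ^ (m - 1)) g) : Q) : Q ⧸ scalarSub hW.2.1)
    rw [hy, hθpow]
    congr 1
    exact Subtype.ext (hθ₂app _ g).symm
  have htop : (A - 1) ^ (p ^ m - 1) = 0 := by
    refine LinearMap.ext fun u => Subtype.ext (Subtype.ext ?_)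
    have e : ∀ (i : ℕ) (u : U₂), ((((A - 1) ^ i) u : U) : V) = ((ρ s - 1) ^ i) ((u : U) : V) := by
      intro i
      induction i with
      | zero => intro u; simp
      | succ i ih =>
        intro u
        rw [pow_succ, Module.End.mul_apply, ih, pow_succ, Module.End.mul_apply]
        rfl
    rw [e, hnil _ (u : U).2]
    rfl
  have hcrit := critical (isIrred_restrictRep hU₂) hQ₂ hAσ hAN hθN hA1 hfree
  have hdim := hcrit.2 htop
  have hle := index_le_sq σ₂ f₁.ker hfaith hsc₂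
  rw [hidx, hdim] at hle
  refine ⟨?_, ?_⟩
  swap
  · have hinj : Function.Injective (MonoidHom.mk' emb fun a b => rfl) := fun a b hab =>
      Subtype.ext (Subtype.ext (congrArg Subtype.val hab :))
    obtain ⟨dQ, hdQ⟩ := (hQq.of_injective _ hinj).exists_card_eq
    obtain ⟨b, hb⟩ := exists_finrank_eq_pow (K := K) dQ hdQ σ₂ (isIrred_restrictRep hU₂)
    refine ⟨b, hdim.symm.trans hb, ?_⟩
    rw [← hdim.symm.trans hb]
    exact hle
  -- the twisted action on the intertwiners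
  set S : Module.End K U := ρU s' with hS'
  have hSN : S ^ p ^ m = 1 := by
    rw [hS', ← map_pow, show s' ^ p ^ m = 1 from Subtype.ext (by simpa [hs'] using hsm), map_one]
  have hSnil : (S - 1) ^ (p ^ m - 1) = 0 := by
    refine LinearMap.ext fun u => Subtype.ext ?_
    have e : ∀ (i : ℕ) (u : U), ((((S - 1) ^ i) u : U) : V) = ((ρ s - 1) ^ i) (u : V) := by
      intro i
      induction i with
      | zero => intro u; simp
      | succ i ih =>
        intro u
        rw [pow_succ, Module.End.mul_apply, ih, pow_succ, Module.End.mul_apply]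
        rfl
    rw [e, hnil _ u.2]
    rfl
  have hN2 : 2 ≤ p ^ m := le_trans hp.out.two_le (Nat.le_self_pow (by omega) p)
  set A' := A ^ (p ^ m - 1) with hA'
  have hAA' : A * A' = 1 := by
    rw [hA', ← pow_succ', Nat.sub_add_cancel (by omega), hAN]
  have hA'A : A' * A = 1 := by
    rw [hA', ← pow_succ, Nat.sub_add_cancel (by omega), hAN]
  let M : Submodule K (U₂ →ₗ[K] U) :=
    { carrier := {f | ∀ g ∈ Q₁', ∀ (w : U₂) (h : ρU g (w : U) ∈ U₂),
        f ⟨ρU g (w : U), h⟩ = ρU g (f w)}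
      zero_mem' := by intro g _ w h; simp
      add_mem' := by
        intro a b ha hb g hg w h
        simp only [LinearMap.add_apply, map_add, ha g hg w h, hb g hg w h]
      smul_mem' := by
        intro c a ha g hg w h
        simp only [LinearMap.smul_apply, map_smul, ha g hg w h] }
  have hM : ∀ f : U₂ →ₗ[K] U, f ∈ M ↔ ∀ g : Q₁', f.comp (σ₂ g) = (ρU (g : St)).comp f := by
    intro f
    exact ⟨fun hf g => LinearMap.ext fun w => hf g g.2 w _,
      fun hf g hg w h => LinearMap.congr_fun (hf ⟨g, hg⟩) w⟩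
  let B : Module.End K (U₂ →ₗ[K] U) :=
    { toFun := fun f => S.comp (f.comp A')
      map_add' := fun f g => by ext; simp
      map_smul' := fun c f => by ext; simp }
  have hBapp : ∀ f, B f = S.comp (f.comp A') := fun f => rfl
  have hBpow : ∀ (k : ℕ) f, (B ^ k) f = (S ^ k).comp (f.comp (A' ^ k)) := by
    intro k
    induction k with
    | zero => intro f; rfl
    | succ k ih =>
      intro f
      rw [pow_succ', Module.End.mul_apply, ih, hBapp, pow_succ' S, pow_succ A']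
      rfl
  have hB0 : ((B - 1) ^ p ^ m : Module.End K (U₂ →ₗ[K] U)) = 0 := by
    have hB1 : B ^ p ^ m = 1 := by
      refine LinearMap.ext fun f => ?_
      rw [hBpow, hSN, hA', ← pow_mul, mul_comm, pow_mul, hAN, one_pow]
      rfl
    rw [sub_one_pow_pPow, hB1]
    exact LinearMap.ext fun f => by simp
  have hBM : ∀ f ∈ M, B f ∈ M := by
    intro f hf
    rw [hM] at hf ⊢
    intro g
    set g₀ := θ₂.symm g with hg₀'
    have h1 : σ₂ g = A * σ₂ g₀ * A' := by
      rw [hAσ, mul_assoc, hAA', mul_one, hg₀', MulEquiv.apply_symm_apply]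
    have h2 : S * ρU (g₀ : St) = ρU (g : St) * S := by
      rw [hS', ← map_mul, ← map_mul]
      congr 1
      apply Subtype.ext
      have h3 := hθ₂app 1 g₀
      rw [pow_one, pow_one, hg₀', MulEquiv.apply_symm_apply] at h3
      show s * ((θ₂.symm g : St) : G) = ((g : St) : G) * s
      rw [h3, inv_mul_cancel_right]
    refine LinearMap.ext fun w => ?_
    show S (f (A' (σ₂ g w))) = ρU (g : St) (S (f (A' w)))
    rw [h1, Module.End.mul_apply, Module.End.mul_apply, ← Module.End.mul_apply A' A, hA'A,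
      Module.End.one_apply]
    have h4 := LinearMap.congr_fun (hf g₀) (A' w)
    rw [LinearMap.comp_apply, LinearMap.comp_apply] at h4
    rw [h4, ← Module.End.mul_apply, h2, Module.End.mul_apply]
  have hcomm : ∀ f ∈ M, S.comp f = f.comp A := by
    intro f hf
    suffices hBf : B f = f by
      conv_rhs => rw [← hBf, hBapp]
      refine LinearMap.ext fun w => ?_
      show S (f w) = S (f (A' (A w)))
      rw [← Module.End.mul_apply A' A, hA'A, Module.End.one_apply]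
    by_contra hne
    have hjM : ∀ j, ((B - 1) ^ j : Module.End K (U₂ →ₗ[K] U)) f ∈ M := by
      intro j
      induction j with
      | zero => simpa using hf
      | succ j ih =>
        rw [pow_succ', Module.End.mul_apply, LinearMap.sub_apply, Module.End.one_apply]
        exact sub_mem (hBM _ ih) ih
    have hex : ∃ j, ((B - 1) ^ j : Module.End K (U₂ →ₗ[K] U)) f = 0 := ⟨p ^ m, by rw [hB0]; rfl⟩
    obtain ⟨j, hj⟩ : ∃ j, Nat.find hex = j + 2 := by
      refine ⟨Nat.find hex - 2, ?_⟩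
      have h0 : Nat.find hex ≠ 0 := fun e => hne (by
        have h := Nat.find_spec hex
        rw [e, pow_zero, Module.End.one_apply] at h
        rw [h, map_zero])
      have h1 : Nat.find hex ≠ 1 := fun e => hne (by
        have h := Nat.find_spec hex
        rw [e, pow_one, LinearMap.sub_apply, Module.End.one_apply, sub_eq_zero] at h
        exact h)
      omega
    set g := ((B - 1) ^ j : Module.End K (U₂ →ₗ[K] U)) f with hg
    set Ψ := ((B - 1) ^ (j + 1) : Module.End K (U₂ →ₗ[K] U)) f with hΨ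
    have hΨ0 : Ψ ≠ 0 := Nat.find_min hex (show j + 1 < Nat.find hex by omega)
    have hΨ1 : B Ψ = Ψ := by
      have h := Nat.find_spec hex
      rw [hj, show j + 2 = j + 1 + 1 by omega, pow_succ', Module.End.mul_apply,
        LinearMap.sub_apply, Module.End.one_apply, sub_eq_zero] at h
      exact h
    have hg1 : B g = g + Ψ := by
      rw [hΨ, pow_succ', Module.End.mul_apply, ← hg, LinearMap.sub_apply, Module.End.one_apply]
      abel
    have hundo : ∀ (φ₁ φ₂ : U₂ →ₗ[K] U), B φ₁ = φ₂ → ∀ w, S (φ₁ w) = φ₂ (A w) := by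
      rintro φ₁ _ rfl w
      show S (φ₁ w) = S (φ₁ (A' (A w)))
      rw [← Module.End.mul_apply A' A, hA'A, Module.End.one_apply]
    have hSΨ := hundo Ψ Ψ hΨ1
    have hSg := hundo g _ hg1
    have hAc : ∀ w, (A - 1) (A w) = A ((A - 1) w) := fun w => by
      simp [LinearMap.sub_apply]
    have hpush : ∀ (k : ℕ) (w : U₂), ((S - 1) ^ (k + 1)) (g w) =
        g (((A - 1) ^ (k + 1)) w) + ((k + 1 : ℕ) : K) • Ψ (A (((A - 1) ^ k) w)) := by
      intro k
      induction k with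
      | zero =>
        intro w
        simp only [zero_add, pow_one, pow_zero, Module.End.one_apply, Nat.cast_one, one_smul,
          LinearMap.sub_apply, hSg, LinearMap.add_apply, map_sub]
        abel
      | succ k ih =>
        intro w
        rw [pow_succ', Module.End.mul_apply, ih, map_add, map_smul]
        have e1 : ∀ v, (S - 1) (g v) = g ((A - 1) v) + Ψ (A v) := fun v => by
          simp only [LinearMap.sub_apply, Module.End.one_apply, hSg, LinearMap.add_apply, map_sub]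
          abel
        have e2 : ∀ v, (S - 1) (Ψ v) = Ψ ((A - 1) v) := fun v => by
          simp only [LinearMap.sub_apply, Module.End.one_apply, hSΨ, map_sub]
        rw [e1, e2, hAc, ← Module.End.mul_apply (A - 1), ← pow_succ', ← Module.End.mul_apply (A - 1),
          ← pow_succ', Nat.cast_succ (k + 1), add_smul, one_smul]
        abel
    obtain ⟨k, hk⟩ : ∃ k, p ^ m - 1 = k + 1 := ⟨p ^ m - 2, by omega⟩
    have hck : ((k + 1 : ℕ) : K) ≠ 0 := by
      rw [← hk, Nat.cast_sub (by omega), Nat.cast_pow, CharP.cast_eq_zero, zero_pow (by omega)]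
      simp
    have hΨM : Ψ ∈ M := hjM _
    have hinjΨ := injective_of_intertwine hU₂ Ψ hΨ0 hΨM
    have hzero : (A - 1) ^ k = 0 := by
      refine LinearMap.ext fun w => ?_
      have h := hpush k w
      rw [← hk, hSnil, htop, LinearMap.zero_apply, LinearMap.zero_apply, map_zero, zero_add] at h
      have h1 := hinjΨ (((smul_eq_zero.1 h.symm).resolve_left (hk ▸ hck)).trans (map_zero Ψ).symm)
      have h2 := congrArg A' h1
      rw [← Module.End.mul_apply A' A, hA'A, Module.End.one_apply, map_zero] at h2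
      exact h2
    have := hcrit.1 k hzero
    omega
  -- the span of the images
  intro x hx
  induction x using QuotientGroup.induction_on with
  | _ h =>
  have hhM : ∀ k : Q, y (k : Q ⧸ scalarSub hW.2.1) = k → ∀ f ∈ M, (ρU (q₀ k)).comp f ∈ M := by
    intro k hk f hf g hg w hw
    obtain ⟨hgQ, hgm⟩ := hmem₁.1 hg
    have h1 := horth ⟨(g : G), hgQ⟩ k hgm hk
    show ρU (q₀ k) (f ⟨ρU g w, hw⟩) = ρU g (ρU (q₀ k) (f w))
    rw [hf g hg w hw]
    have e : σ (k * ⟨(g : G), hgQ⟩) = σ (⟨(g : G), hgQ⟩ * k) := by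
      rw [map_mul σ ⟨(g : G), hgQ⟩ k, ← h1, ← map_mul]
      congr 1
      group
    apply Subtype.ext
    have e2 := congrArg Subtype.val (LinearMap.congr_fun e (f w))
    simp only [σ, restrictRep_apply, map_mul, Subgroup.coe_mul, Module.End.mul_apply] at e2
    exact e2
  let T : Submodule K U := ⨆ f : M, LinearMap.range (f : U₂ →ₗ[K] U)
  have hT : ∀ k : Q, T ≤ T.comap (ρU (q₀ k)) := by
    intro k
    refine iSup_le fun f => ?_
    rintro _ ⟨w, rfl⟩
    obtain ⟨a, ha, b, hb, hab⟩ := exists_decomp hX hyp (k : Q ⧸ scalarSub hW.2.1)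
    induction b using QuotientGroup.induction_on with
    | _ k₂ =>
    have hk₁ : q₀ (k * k₂⁻¹) ∈ Q₁' := hmem₁.2 ⟨(k * k₂⁻¹).2, by
      show ((k * k₂⁻¹ : Q) : Q ⧸ scalarSub hW.2.1) ∈ moved (X := Q ⧸ scalarSub hW.2.1) y
      rw [QuotientGroup.mk_mul, QuotientGroup.mk_inv, hab, mul_inv_cancel_right]
      exact ha⟩
    have hf' := hhM k₂ hb _ f.2
    rw [Submodule.mem_comap, show q₀ k = q₀ (k * k₂⁻¹) * q₀ k₂ from Subtype.ext (by simp [q₀]),
      map_mul, Module.End.mul_apply]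
    refine Submodule.mem_iSup_of_mem (⟨_, hf'⟩ : M) ⟨⟨_, hU₂.2.1 _ hk₁ w w.2⟩, ?_⟩
    exact hf' _ hk₁ w _
  have hTtop : T = ⊤ := by
    have hinv : Invt ρ Q (T.map U.subtype) := by
      rintro g hg _ ⟨u, hu, rfl⟩
      exact ⟨ρU (q₀ ⟨g, hg⟩) u, hT ⟨g, hg⟩ hu, rfl⟩
    have hU₂T : U₂ ≤ T := fun u hu => Submodule.mem_iSup_of_mem
      (⟨U₂.subtype, fun g hg w h => rfl⟩ : M) ⟨⟨u, hu⟩, rfl⟩
    rcases hU.2.2 _ (Submodule.map_subtype_le _ _) hinv with h0 | h0
    · refine absurd (le_bot_iff.1 ?_) hU₂.1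
      refine hU₂T.trans (le_of_eq ?_)
      exact Submodule.map_injective_of_injective (f := U.subtype) Subtype.val_injective (h0.trans (Submodule.map_bot _).symm)
    · refine Submodule.map_injective_of_injective (f := U.subtype) Subtype.val_injective ?_
      rw [h0, Submodule.map_subtype_top]
  have hagree : ∀ u : U, S (ρU (q₀ h) u) = ρU (q₀ h) (S u) := by
    have hle' : T ≤ LinearMap.eqLocus (S * ρU (q₀ h)) (ρU (q₀ h) * S) := by
      refine iSup_le fun f => ?_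
      rintro _ ⟨w, rfl⟩
      have h1 := LinearMap.congr_fun (hcomm _ (hhM h hx _ f.2)) w
      have h2 := LinearMap.congr_fun (hcomm _ f.2) w
      rw [LinearMap.comp_apply, LinearMap.comp_apply] at h1 h2
      rw [LinearMap.mem_eqLocus, Module.End.mul_apply, Module.End.mul_apply, h2]
      exact h1
    intro u
    exact hle' (hTtop ▸ Submodule.mem_top : u ∈ T)
  set d : Q := h⁻¹ * ⟨s * h * s⁻¹, conj_mem hs.1 h.2⟩ with hd
  rw [hθ, classAction_mk, eq_comm, QuotientGroup.eq, ← hd]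
  refine mem_scalarSub.2 ⟨1, scalar_of_linked hU hW (hWU.symm hW hU) d.2 fun u hu => ?_⟩
  obtain ⟨v, hv, rfl⟩ : u ∈ U.map (ρ s) := hsUmap.symm ▸ hu
  have h1 : ρ s (ρ (h : G) v) = ρ (h : G) (ρ s v) := congrArg Subtype.val (hagree ⟨v, hv⟩)
  rw [one_smul, show ((d : Q) : G) = (h : G)⁻¹ * (s * (h : G) * s⁻¹) from rfl, map_mul, map_mul,
    map_mul, Module.End.mul_apply, Module.End.mul_apply, Module.End.mul_apply, apply_inv_apply, h1,
    apply_inv_apply]

end Cfsg.Agent.Lib.GrossTwo
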