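import Cfsg.Agent.Lib.GrossTwo.Group

/-!
# Two layers lower the exponent of a Sylow `2`-subgroup
-/

set_option autoImplicit false

namespace Cfsg.Agent.Lib.GrossTwo

open Subgroup Cfsg Cfsg.Agent.Lib.HallHigmanB Cfsg.Agent.Lib.HallHigmanFermat
open Cfsg.Agent.Lib.PSolvable
open scoped IsMulCommutative TensorProduct

universe u

/-- Two layers lower the exponent. -/
theorem exponent_step_two {G : Type u} [Group G] [Finite G] [Group.IsSolvable G] (e : ℕ)
    (hexp : ∀ (P : Sylow 2 G), ∀ x ∈ (P : Subgroup G), x ^ 2 ^ (e + 1) = 1) :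
    ∃ (H : Type u) (_ : Group H) (_ : Finite H), Group.IsSolvable H ∧
      (∀ (P : Sylow 2 H), ∀ x ∈ (P : Subgroup H), x ^ 2 ^ e = 1) ∧
      ∀ k, PLengthLE 2 k H → PLengthLE 2 (k + 2) G := by
  classical
  haveI : Fact (Nat.Prime 2) := ⟨Nat.prime_two⟩
  have hG : IsPSolvable 2 G := isPSolvable_of_isSolvable
  obtain ⟨G₁, _, _, f, E, hL⟩ := exists_layer (p := 2) hG
  haveI := hL.normal
  haveI : IsMulCommutative E := ⟨⟨fun a b => Subtype.ext (hL.comm a a.2 b b.2)⟩⟩
  set F := (QuotientGroup.mk' E).comp f with hF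
  have hFs : Function.Surjective F := (QuotientGroup.mk'_surjective E).comp hL.surj
  haveI : Group.IsSolvable (G₁ ⧸ E) := Group.isSolvable_of_surjective hFs
  have hH : IsPSolvable 2 (G₁ ⧸ E) := isPSolvable_of_isSolvable
  obtain ⟨H₁, _, _, f₂, E₂, hL₂⟩ := exists_layer (p := 2) hH
  haveI := hL₂.normal
  set F₂ := (QuotientGroup.mk' E₂).comp f₂ with hF₂
  have hF₂s : Function.Surjective F₂ := (QuotientGroup.mk'_surjective E₂).comp hL₂.surj
  refine ⟨H₁ ⧸ E₂, inferInstance, inferInstance, Group.isSolvable_of_surjective hF₂s, ?_, fun k hk =>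
    pLengthLE_succ_of_map hFs hL.ker_eq (pLengthLE_succ_of_map hF₂s hL₂.ker_eq hk)⟩
  intro U x hx
  obtain ⟨T₁, rfl⟩ := Sylow.mapSurjective_surjective hF₂s 2 U
  obtain ⟨S, rfl⟩ := Sylow.mapSurjective_surjective hFs 2 T₁
  rw [Sylow.coe_mapSurjective, Sylow.coe_mapSurjective] at hx
  obtain ⟨_, ⟨s, hs, rfl⟩, rfl⟩ := hx
  -- the module of the first layer over an algebraically closed field
  haveI : Module (ZMod 2) (Additive E) := AddCommGroup.zmodModule fun v => by
    apply Additive.toMul.injective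
    rw [toMul_nsmul, toMul_zero]
    exact Subtype.ext (hL.pow _ (Additive.toMul v).2)
  haveI : FiniteDimensional (ZMod 2) (Additive E) := Module.Finite.of_finite
  set φ₁ : G₁ →* Module.End (ZMod 2) (Additive E) := endRep MulAut.conjNormal with hφ₁
  have hker₁ : E = φ₁.ker := by rw [hφ₁, ker_endRep, ker_conjNormal hL.comm hL.centralizer_le]
  set ρ₁ : G₁ ⧸ E →* Module.End (ZMod 2) (Additive E) := QuotientGroup.lift E φ₁ hker₁.le with hρ₁
  have hρ₁inj : Function.Injective ρ₁ := by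
    rw [injective_iff_map_eq_one]
    intro z hz
    obtain ⟨z, rfl⟩ := QuotientGroup.mk_surjective z
    rw [QuotientGroup.eq_one_iff, hker₁, MonoidHom.mem_ker]
    exact hz
  let K := AlgebraicClosure (ZMod 2)
  haveI : CharP K 2 := charP_of_injective_algebraMap (algebraMap (ZMod 2) K).injective 2
  let β : Module.End (ZMod 2) (Additive E) →ₐ[ZMod 2] Module.End K (K ⊗[ZMod 2] Additive E) :=
    Module.End.baseChangeHom (ZMod 2) K (Additive E)
  have hβ : Function.Injective β := LinearMap.baseChangeHom_injective (ZMod 2) (Additive E) K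
  let ρ : G₁ ⧸ E →* Module.End K (K ⊗[ZMod 2] Additive E) := β.toRingHom.toMonoidHom.comp ρ₁
  have hnil : (ρ (F s) - 1) ^ (2 ^ (e + 1) - 1) = 0 := by
    have hmem : ∀ y ∈ ((S.mapSurjective hL.surj : Sylow 2 G₁) : Subgroup G₁),
        y ^ 2 ^ (e + 1) = 1 := by
      intro y hy
      rw [Sylow.coe_mapSurjective] at hy
      obtain ⟨z, hz, rfl⟩ := hy
      rw [← map_pow, hexp S z hz, map_one]
    have hs' : f s ∈ ((S.mapSurjective hL.surj : Sylow 2 G₁) : Subgroup G₁) := by
      rw [Sylow.coe_mapSurjective]; exact mem_map_of_mem f hs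
    have h1 : (φ₁ (f s) - 1) ^ (2 ^ (e + 1) - 1) = 0 := by
      refine LinearMap.ext fun w => ?_
      rw [sub_one_pow_pPow_sub_one, ← ofMul_toMul w, hφ₁, sum_endRep, LinearMap.zero_apply]
      apply Additive.toMul.injective
      rw [toMul_zero, toMul_ofMul]
      apply Subtype.ext
      have h := mul_pow_eq hL.comm (Additive.toMul w) (f s) (2 ^ (e + 1))
      rw [hmem _ hs', mul_one, hmem _ (mul_mem (hL.le_sylow _ (Additive.toMul w).2) hs')] at h
      exact h.symm
    show (β (φ₁ (f s)) - 1) ^ (2 ^ (e + 1) - 1) = 0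
    have h2 := congrArg β h1
    simpa [map_pow, map_sub, map_one] using h2
  have hto : F s ^ 2 ^ (e + 1) = 1 := by rw [← map_pow, hexp S s hs, map_one]
  have hmemF := pow_mem_pPrimePCore (ρ := ρ) (fun a b h => hρ₁inj (hβ h)) hL.pCore_eq_bot hto hnil
  rw [← OddMax.Sec10.upperPSeries_two, ← hL₂.comap_eq, mem_comap] at hmemF
  rw [← map_pow]
  exact (QuotientGroup.eq_one_iff _).2 hmemF

/-- An abelian Sylow `2`-subgroup gives length one. -/
theorem pLengthLE_one {G : Type u} [Group G] [Finite G] [Group.IsSolvable G]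
    (hexp : ∀ (P : Sylow 2 G), ∀ x ∈ (P : Subgroup G), x ^ 2 = 1) : PLengthLE 2 1 G := by
  classical
  haveI : Fact (Nat.Prime 2) := ⟨Nat.prime_two⟩
  obtain ⟨G₁, _, _, f, E, hL⟩ := exists_layer (p := 2) (isPSolvable_of_isSolvable (G := G))
  haveI := hL.normal
  set F := (QuotientGroup.mk' E).comp f with hF
  have hFs : Function.Surjective F := (QuotientGroup.mk'_surjective E).comp hL.surj
  refine pLengthLE_succ_of_map hFs hL.ker_eq (pLengthLE_zero_of_coprime ?_)
  obtain ⟨P⟩ : Nonempty (Sylow 2 G) := inferInstance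
  set P₁ := P.mapSurjective hL.surj with hP₁
  have hsq : ∀ y ∈ (P₁ : Subgroup G₁), y * y = 1 := by
    intro y hy
    rw [hP₁, Sylow.coe_mapSurjective] at hy
    obtain ⟨z, hz, rfl⟩ := hy
    rw [← map_mul, ← sq, hexp P z hz, map_one]
  have hle : (P₁ : Subgroup G₁) ≤ E := fun x hx => hL.centralizer_le (mem_centralizer_iff.2 fun y hy => by
    have hy' : y ∈ (P₁ : Subgroup G₁) := hL.le_sylow _ hy
    have h1 := eq_inv_of_mul_eq_one_left (hsq _ (mul_mem hy' hx))
    rw [mul_inv_rev, ← eq_inv_of_mul_eq_one_left (hsq _ hx),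
      ← eq_inv_of_mul_eq_one_left (hsq _ hy')] at h1
    exact h1)
  have hnd : ¬ 2 ∣ E.index := fun h => P₁.not_dvd_index (h.trans (index_dvd_of_le hle))
  rw [← index_eq_card]
  exact (Nat.prime_two.coprime_iff_not_dvd.2 hnd).symm

/-- Gross's bound on the `2`-length. -/
theorem pLengthLE_two_mul_add_one : ∀ (e : ℕ) {G : Type u} [Group G] [Finite G] [Group.IsSolvable G],
    (∀ (P : Sylow 2 G), ∀ x ∈ (P : Subgroup G), x ^ 2 ^ (e + 1) = 1) →
      PLengthLE 2 (2 * e + 1) G := by
  intro e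
  induction e with
  | zero =>
    intro G _ _ _ hexp
    exact pLengthLE_one fun P x hx => by simpa using hexp P x hx
  | succ e ih =>
    intro G _ _ _ hexp
    obtain ⟨H, _, _, hH, hHexp, hlift⟩ := exponent_step_two (e + 1) hexp
    haveI := hH
    exact hlift _ (ih hHexp)

end Cfsg.Agent.Lib.GrossTwo
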