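import Cfsg.Agent.Lib.GrossTwo.Commute

/-!
# Elements of order `q + 1` on a hyperbolic plane

`X` is an abelian `q`-group with a nondegenerate alternating pairing; `s` has order `2 ^ m = q + 1`, centralises
the fixed part of its involution `y`, and `y` moves at most `q ^ 2` elements. Then `s` commutes with its
conjugates inside a `2`-group of isometries containing it.
-/

set_option autoImplicit false
set_option linter.unusedSectionVars false

namespace Cfsg.Agent.Lib.GrossTwo

open Subgroup Cfsg.Agent.Lib.HallHigmanFermat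
open scoped commutatorElement

variable {X U : Type*} [CommGroup X] [Finite X] [CommGroup U]

/-- A nondegenerate alternating pairing with few `q`-th roots of unity among its values. -/
structure Pairing (q : ℕ) (c : X →* X →* U) : Prop where
  self : ∀ x, c x x = 1
  nondeg : ∀ x, (∀ z, c x z = 1) → x = 1
  finite : Finite {u : U // u ^ q = 1}
  roots : Nat.card {u : U // u ^ q = 1} ≤ q

/-- The isometries. -/
def isom (c : X →* X →* U) : Subgroup (MulAut X) where
  carrier := {g | ∀ x z, c (g x) (g z) = c x z}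
  one_mem' := fun _ _ => rfl
  mul_mem' := fun {a b} ha hb x z => by rw [MulAut.mul_apply, MulAut.mul_apply, ha, hb]
  inv_mem' := fun {a} ha x z => by
    rw [← ha (a⁻¹ x) (a⁻¹ z), ← MulAut.mul_apply, ← MulAut.mul_apply, mul_inv_cancel, MulAut.one_apply,
      MulAut.one_apply]

variable {q : ℕ} [hq : Fact q.Prime] {c : X →* X →* U}

theorem Pairing.symm (hc : Pairing q c) {x z : X} (h : c x z = 1) : c z x = 1 := by
  have h1 := hc.self (x * z)
  simp only [map_mul, MonoidHom.mul_apply, hc.self, h, one_mul, mul_one] at h1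
  exact h1

/-- The fixed part is orthogonal to the moved part. -/
theorem orth_fix_moved {g : MulAut X} (hg : g ∈ isom c) {h x : X} (hh : g h = h) (hx : x ∈ moved g) :
    c h x = 1 := by
  obtain ⟨u, rfl⟩ := hx
  show c h (g u / u) = 1
  rw [map_div, div_eq_one]
  conv_lhs => rw [← hh]
  exact hg h u

/-- The fixed points. -/
def fixedSub (g : MulAut X) : Subgroup X where
  carrier := {x | g x = x}
  one_mem' := map_one g
  mul_mem' := fun {a b} ha hb => by
    show g (a * b) = a * b
    rw [map_mul, show g a = a from ha, show g b = b from hb]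
  inv_mem' := fun {a} ha => by
    show g a⁻¹ = a⁻¹
    rw [map_inv, show g a = a from ha]

variable {y : MulAut X}

/-- An element of the moved plane orthogonal to it is trivial. -/
theorem eq_one_of_orth (hc : Pairing q c) (hX : ¬ 2 ∣ Nat.card X) (hy : y ∈ isom c) (hy2 : y ^ 2 = 1)
    {x : X} (hx : x ∈ moved y) (h : ∀ z ∈ moved y, c x z = 1) : x = 1 := by
  haveI : Fact (Nat.Prime 2) := ⟨Nat.prime_two⟩
  refine hc.nondeg x fun z => ?_
  obtain ⟨a, ha, b, hb, rfl⟩ := exists_decomp hX hy2 z
  rw [map_mul, h a ha, hc.symm (orth_fix_moved hy hb hx), one_mul]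

/-- A cyclic subgroup is isotropic. -/
theorem orth_zpowers (hc : Pairing q c) {x z : X} (hz : z ∈ zpowers x) : c x z = 1 := by
  obtain ⟨k, rfl⟩ := mem_zpowers_iff.1 hz
  rw [map_zpow, hc.self, one_zpow]

/-- Subgroups of the plane of order at most `q` are cyclic. -/
theorem eq_zpowers_of_card_le (hXq : IsPGroup q X) {S : Subgroup X} (hS : Nat.card S ≤ q) {x : X}
    (hx : x ∈ S) (hx1 : x ≠ 1) : S = zpowers x := by
  refine (eq_of_le_of_card_ge (zpowers_le.2 hx) (hS.trans ?_)).symm
  obtain ⟨k, hk⟩ := (hXq.to_subgroup (zpowers x)).exists_card_eq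
  rw [hk]
  refine Nat.le_self_pow (fun h0 => hx1 ?_) q
  have := eq_bot_of_card_eq (zpowers x) (by rw [hk, h0, pow_zero])
  exact zpowers_eq_bot.1 this

/-- The plane has order `q ^ 2`, and its nontrivial elements have order `q`. -/
theorem plane_facts (hc : Pairing q c) (hXq : IsPGroup q X) (hX : ¬ 2 ∣ Nat.card X) (hy : y ∈ isom c)
    (hy2 : y ^ 2 = 1) (hcard : Nat.card (moved y) ≤ q ^ 2) {x : X} (hx : x ∈ moved y) (hx1 : x ≠ 1) :
    Nat.card (moved y) = q ^ 2 ∧ Nat.card (zpowers x) = q := by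
  obtain ⟨k, hk⟩ := (hXq.to_subgroup (moved y)).exists_card_eq
  obtain ⟨j, hj⟩ := (hXq.to_subgroup (zpowers x)).exists_card_eq
  have hne : zpowers x ≠ moved y := fun h =>
    hx1 (eq_one_of_orth hc hX hy hy2 hx fun z hz => orth_zpowers hc (h ▸ hz))
  have hk2 : k ≤ 2 := (Nat.pow_le_pow_iff_right hq.out.one_lt).1 (hk ▸ hcard)
  have hj1 : 1 ≤ j := by
    by_contra h
    exact hx1 (zpowers_eq_bot.1 (eq_bot_of_card_eq _ (by rw [hj, show j = 0 by omega, pow_zero])))
  have hjk : j < k := by
    by_contra h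
    refine hne (eq_of_le_of_card_ge (zpowers_le.2 hx) ?_)
    rw [hk, hj]
    exact Nat.pow_le_pow_right hq.out.pos (by omega)
  obtain rfl : k = 2 := by omega
  obtain rfl : j = 1 := by omega
  exact ⟨hk, by rw [hj, pow_one]⟩

/-- An involution commuting with `y` is `1` or `-1` on the plane. -/
theorem uniform (hc : Pairing q c) (hXq : IsPGroup q X) (hX : ¬ 2 ∣ Nat.card X) (hy : y ∈ isom c)
    (hy2 : y ^ 2 = 1) (hcard : Nat.card (moved y) ≤ q ^ 2) {g : MulAut X} (hg : g ∈ isom c)
    (hg2 : g ^ 2 = 1) (hgy : Commute g y) :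
    (∀ x ∈ moved y, g x = x) ∨ (∀ x ∈ moved y, g x = x⁻¹) := by
  haveI : Fact (Nat.Prime 2) := ⟨Nat.prime_two⟩
  by_contra hcon
  rw [not_or] at hcon
  obtain ⟨hcon1, hcon2⟩ := hcon
  push Not at hcon1 hcon2
  obtain ⟨x₁, hx₁, hne₁⟩ := hcon1
  obtain ⟨x₂, hx₂, hne₂⟩ := hcon2
  have hgg : ∀ x, g (g x) = x := fun x => by
    rw [← MulAut.mul_apply, ← pow_two, hg2, MulAut.one_apply]
  set P := moved y ⊓ moved g with hP
  set F := moved y ⊓ fixedSub g with hF
  have hxP : ∀ x ∈ moved y, g x / x ∈ P := fun x hx =>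
    ⟨(moved y).div_mem (map_moved hgy hx) hx, x, rfl⟩
  have hxF : ∀ x ∈ moved y, x * g x ∈ F := fun x hx =>
    ⟨(moved y).mul_mem hx (map_moved hgy hx), by
      show g (x * g x) = x * g x
      rw [map_mul, hgg, mul_comm]⟩
  have hF1 : ∃ f ∈ F, f ≠ 1 := ⟨_, hxF x₂ hx₂, fun h => hne₂ (eq_inv_of_mul_eq_one_right h)⟩
  obtain ⟨f, hf, hf1⟩ := hF1
  set γ := g x₁ / x₁ with hγ
  have hγP : γ ∈ P := hxP x₁ hx₁
  have hγ1 : γ ≠ 1 := fun h => hne₁ (div_eq_one.1 h)
  let Φ : P × F → moved y := fun z => ⟨(z.1 : X) * z.2, (moved y).mul_mem z.1.2.1 z.2.2.1⟩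
  have hΦ : Function.Injective Φ := by
    rintro ⟨a₁, b₁⟩ ⟨a₂, b₂⟩ h
    have h' : (a₁ : X) * b₁ = (a₂ : X) * b₂ := congrArg Subtype.val h
    have hd : (a₁ : X) / a₂ = (b₂ : X) / b₁ := by rw [div_eq_div_iff_mul_eq_mul, h', mul_comm]
    have hone : (a₁ : X) / a₂ = 1 :=
      eq_one_of_moved_fixed hX hg2 ((moved g).div_mem a₁.2.2 a₂.2.2)
        (by rw [hd]; exact ((fixedSub g).div_mem b₂.2.2 b₁.2.2))
    refine Prod.ext (Subtype.ext (div_eq_one.1 hone)) (Subtype.ext ?_)
    rw [hd] at hone
    exact (div_eq_one.1 hone).symm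
  have hqF : q ≤ Nat.card F := by
    rw [← (plane_facts hc hXq hX hy hy2 hcard hf.1 hf1).2]
    exact card_le_of_le (zpowers_le.2 hf)
  have hPq : Nat.card P ≤ q := by
    have h1 := Nat.card_le_card_of_injective Φ hΦ
    rw [Nat.card_prod] at h1
    have h2 := (Nat.mul_le_mul_left (Nat.card P) hqF).trans (h1.trans hcard)
    rw [pow_two] at h2
    exact Nat.le_of_mul_le_mul_right h2 hq.out.pos
  have hPeq := eq_zpowers_of_card_le hXq hPq hγP hγ1
  refine hγ1 (eq_one_of_orth hc hX hy hy2 hγP.1 fun z hz => ?_)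
  have hsq : z ^ 2 ∈ (c γ).ker := by
    have e : z ^ 2 = (z * g z) / (g z / z) := by
      rw [pow_two, div_eq_mul_inv, inv_div, div_eq_mul_inv, mul_assoc, mul_comm z (g z)⁻¹,
        mul_inv_cancel_left]
    rw [e]
    refine div_mem ?_ ?_
    · exact hc.symm (orth_fix_moved hg (hxF z hz).2 hγP.2)
    · exact orth_zpowers hc (hPeq ▸ hxP z hz)
  obtain ⟨k, hk⟩ := exists_pow_eq_self_of_coprime (n := 2) (x := z)
    ((Nat.prime_two.coprime_iff_not_dvd).2 fun h => hX (h.trans (orderOf_dvd_natCard z)))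
  rw [← hk]
  exact pow_mem hsq k

/-- The number of hyperbolic pairs. -/
theorem card_pairs (hc : Pairing q c) (hXq : IsPGroup q X) (hX : ¬ 2 ∣ Nat.card X) (hy : y ∈ isom c)
    (hy2 : y ^ 2 = 1) (hcard : Nat.card (moved y) ≤ q ^ 2) {ζ : U} (hζ : ζ ≠ 1) (hζq : ζ ^ q = 1) (hne : moved y ≠ ⊥) :
    Nat.card {xz : moved y × moved y // c xz.1 xz.2 = ζ} ∣ (q ^ 2 - 1) * q := by
  classical
  haveI := hc.finite
  haveI := Fintype.ofFinite (moved y)
  have hfib : ∀ x : moved y, x ≠ 1 → Nat.card {z : moved y // c x z = ζ} = q := by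
    intro x hx
    have hx1 : (x : X) ≠ 1 := fun h => hx (Subtype.ext h)
    have hK := (plane_facts hc hXq hX hy hy2 hcard x.2 hx1).1
    set L : moved y →* U := (c (x : X)).comp (moved y).subtype with hL
    have hrange : ∀ z : moved y, L z ^ q = 1 := fun z => by
      by_cases hz : (z : X) = 1
      · simp [hL, hz]
      · have h := (plane_facts hc hXq hX hy hy2 hcard z.2 hz).2
        rw [Nat.card_zpowers] at h
        show c x z ^ q = 1
        rw [← map_pow, ← h, pow_orderOf_eq_one, map_one]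
    let toRoot : L.range → {u : U // u ^ q = 1} := fun u => ⟨u, by
      obtain ⟨z, hz⟩ := u.2
      rw [← hz]; exact hrange z⟩
    have hinj : Function.Injective toRoot := fun a b h => Subtype.ext (congrArg Subtype.val h :)
    have hr1 : Nat.card L.range ≤ q := (Nat.card_le_card_of_injective toRoot hinj).trans hc.roots
    have hmul : Nat.card L.ker * Nat.card L.range = q ^ 2 := by
      rw [← hK, ← index_ker, card_mul_index]
    obtain ⟨j, hj⟩ := ((hXq.to_subgroup (moved y)).to_subgroup L.ker).exists_card_eq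
    have hj2 : j < 2 := by
      by_contra h
      have h2 : L.ker = ⊤ := by
        refine eq_top_of_le_card _ ?_
        rw [hK, hj]
        exact Nat.pow_le_pow_right hq.out.pos (by omega)
      exact hx1 (eq_one_of_orth hc hX hy hy2 x.2 fun z hz =>
        MonoidHom.mem_ker.1 (show (⟨z, hz⟩ : moved y) ∈ L.ker by rw [h2]; exact mem_top _))
    have hj1 : 1 ≤ j := by
      by_contra h
      rw [hj, show j = 0 by omega, pow_zero, one_mul] at hmul
      have := hq.out.two_le
      nlinarith
    obtain rfl : j = 1 := by omega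
    rw [pow_one] at hj
    have hr : Nat.card L.range = q := by
      rw [hj, pow_two] at hmul
      exact Nat.eq_of_mul_eq_mul_left hq.out.pos hmul
    obtain ⟨u, hu⟩ : ∃ u : L.range, toRoot u = ⟨ζ, hζq⟩ := by
      refine ((Function.Injective.bijective_of_nat_card_le hinj ?_).2 _)
      rw [hr]; exact hc.roots
    obtain ⟨z₀, hz₀⟩ := u.2
    have hz₀' : L z₀ = ζ := hz₀.trans (congrArg Subtype.val hu)
    rw [← hj]
    refine Nat.card_congr
      { toFun := fun z => ⟨z.1 / z₀, by rw [MonoidHom.mem_ker, map_div, show L z.1 = ζ from z.2, hz₀', div_self']⟩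
        invFun := fun z => ⟨z.1 * z₀, by
          show L (z.1 * z₀) = ζ
          rw [map_mul, MonoidHom.mem_ker.1 z.2, one_mul, hz₀']⟩
        left_inv := fun z => by simp
        right_inv := fun z => by simp }
  let e : {xz : moved y × moved y // c xz.1 xz.2 = ζ} ≃
      Σ x : {x : moved y // x ≠ 1}, {z : moved y // c (x : moved y) z = ζ} :=
    { toFun := fun p => ⟨⟨p.1.1, fun h => hζ (by
        have h1 := p.2
        rw [h, OneMemClass.coe_one, map_one, MonoidHom.one_apply] at h1
        exact h1.symm)⟩, ⟨p.1.2, p.2⟩⟩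
      invFun := fun p => ⟨(p.1.1, p.2.1), p.2.2⟩
      left_inv := fun p => rfl
      right_inv := fun p => rfl }
  rw [Nat.card_congr e, Nat.card_sigma, Finset.sum_congr rfl fun x _ => hfib x.1 x.2,
    Finset.sum_const, Finset.card_univ, smul_eq_mul]
  refine Nat.mul_dvd_mul_right ?_ q
  by_cases h1 : ∀ x : moved y, x = 1
  · exact absurd ((Subgroup.eq_bot_iff_forall _).2 fun x hx => congrArg Subtype.val (h1 ⟨x, hx⟩)) hne
  · push Not at h1
    obtain ⟨x, hx⟩ := h1
    have hK := (plane_facts hc hXq hX hy hy2 hcard x.2 fun h => hx (Subtype.ext h)).1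
    rw [Nat.card_eq_fintype_card] at hK
    rw [Fintype.card_subtype_compl, Fintype.card_subtype_eq, hK]

variable {s : MulAut X} {m : ℕ}

/-- **`s` commutes with its conjugates in a `2`-group of isometries.** -/
theorem commute_conj (hc : Pairing q c) (hXq : IsPGroup q X) (hq2 : q ≠ 2) (hm : 2 ≤ m)
    (hqm : q + 1 = 2 ^ m) (hs : s ^ 2 ^ m = 1)
    (hfix : ∀ x, (s ^ 2 ^ (m - 1)) x = x → s x = x)
    (hcard : Nat.card (moved (s ^ 2 ^ (m - 1))) ≤ q ^ 2) {S : Subgroup (MulAut X)} (hS : IsPGroup 2 S)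
    (hSc : S ≤ isom c) (hsS : s ∈ S) {p : MulAut X} (hp : p ∈ S) :
    Commute (p * s * p⁻¹) s := by
  classical
  haveI : Fact (Nat.Prime 2) := ⟨Nat.prime_two⟩
  haveI : Finite (MulAut X) := Finite.of_injective (fun f : MulAut X => (f : X → X)) DFunLike.coe_injective
  have hX : ¬ 2 ∣ Nat.card X := by
    intro h
    obtain ⟨k, hk⟩ := hXq.exists_card_eq
    exact hq2 ((Nat.prime_dvd_prime_iff_eq Nat.prime_two hq.out).1
      (Nat.prime_two.dvd_of_dvd_pow (hk ▸ h))).symm
  set y := s ^ 2 ^ (m - 1) with hydef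
  have hy : y ∈ isom c := pow_mem (hSc hsS) _
  have hy2 : y ^ 2 = 1 := by rw [hydef, ← pow_mul, ← pow_succ, Nat.sub_add_cancel (by omega), hs]
  set s' := p * s * p⁻¹ with hs'
  have hs'S : s' ∈ S := mul_mem (mul_mem hp hsS) (inv_mem hp)
  set y' := s' ^ 2 ^ (m - 1) with hy'def
  have hy'e : y' = p * y * p⁻¹ := conj_pow
  have happ : ∀ x, y' x = p (y (p⁻¹ x)) := fun x => by rw [hy'e]; rfl
  have hpp : ∀ x, p (p⁻¹ x) = x := fun x => by rw [← MulAut.mul_apply, mul_inv_cancel, MulAut.one_apply]
  have hpp' : ∀ x, p⁻¹ (p x) = x := fun x => by rw [← MulAut.mul_apply, inv_mul_cancel, MulAut.one_apply]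
  have hy' : y' ∈ isom c := pow_mem (hSc hs'S) _
  have hs'm : s' ^ 2 ^ m = 1 := by rw [hs', conj_pow, hs, mul_one, mul_inv_cancel]
  have hy'2 : y' ^ 2 = 1 := by rw [hy'def, ← pow_mul, ← pow_succ, Nat.sub_add_cancel (by omega), hs'm]
  have hfix' : ∀ x, y' x = x → s' x = x := by
    intro x hx
    rw [happ] at hx
    have h1 : y (p⁻¹ x) = p⁻¹ x := p.injective (hx.trans (hpp x).symm)
    show p (s (p⁻¹ x)) = x
    rw [hfix _ h1, hpp]
  -- the two involutions commute
  have hyy : Commute y' y := by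
    obtain ⟨B, hBn, hB⟩ := Lib.Critical.exists_maximal_normal_abelian hS
    haveI := hBn
    have hBc : ∀ a ∈ B, ∀ b ∈ B, a * b = b * a := by
      intro a ha b hb
      rw [← hB] at ha
      exact (mem_centralizer_iff.1 ha b hb).symm
    have key : ∀ t : S, (t : MulAut X) ^ 2 ^ m = 1 →
        (∀ x, ((t : MulAut X) ^ 2 ^ (m - 1)) x = x → (t : MulAut X) x = x) → t ^ 2 ^ (m - 1) ∈ B := by
      intro t ht htf
      rw [← hB, mem_centralizer_iff]
      intro b hb
      refine (commute_abelian_two hX rfl hS S.subtype S.subtype_injective B hBc (by omega)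
        (Subtype.ext (by simpa using ht)) ?_ hb).symm
      exact fun _ => ⟨hm, by simpa using htf⟩
    have h1 := congrArg Subtype.val
      (hBc _ (key ⟨s', hs'S⟩ hs'm hfix') _ (key ⟨s, hsS⟩ hs hfix))
    simpa [Commute, SemiconjBy, hydef, hy'def] using h1
  have hsy : Commute s y := Commute.self_pow s _
  have hfy : ∀ {g : MulAut X}, Commute g y → ∀ b, y b = b → y (g b) = g b := fun {g} h b hb => by
    rw [← MulAut.mul_apply, ← h.eq, MulAut.mul_apply, hb]
  -- reduce to the plane and the fixed part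
  suffices hK : Commute s' y ∧ (∀ a ∈ moved y, s' (s a) = s (s' a)) by
    refine MulEquiv.ext fun x => ?_
    obtain ⟨a, ha, b, hb, rfl⟩ := exists_decomp hX hy2 x
    simp only [MulAut.mul_apply, map_mul]
    rw [hK.2 a ha, hfix b hb, hfix _ (hfy hK.1 b hb)]
  rcases uniform hc hXq hX hy hy2 hcard hy' hy'2 hyy with hid | hinv
  · have hsK : ∀ a ∈ moved y, s' a = a := fun a ha => hfix' a (hid a ha)
    refine ⟨?_, fun a ha => by rw [hsK _ (map_moved hsy ha), hsK a ha]⟩
    refine MulEquiv.ext fun x => ?_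
    obtain ⟨a, ha, b, hb, rfl⟩ := exists_decomp hX hy2 x
    simp only [MulAut.mul_apply, map_mul, hb, hsK a ha, hsK _ (map_moved (Commute.refl y) ha)]
    congr 1
    -- `s'` preserves the fixed part, being an isometry trivial on the plane
    obtain ⟨a', ha', b', hb', hab⟩ := exists_decomp hX hy2 (s' b)
    have ha1 : a' = 1 := by
      refine eq_one_of_orth hc hX hy hy2 ha' fun z hz => ?_
      have h1 : c (s' b) (s' z) = 1 := (hSc hs'S b z).trans (orth_fix_moved hy hb hz)
      rwa [hsK z hz, hab, map_mul, MonoidHom.mul_apply, orth_fix_moved hy hb' hz, mul_one] at h1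
    rw [ha1, one_mul] at hab
    rw [hab, hb']
  · by_cases hK0 : moved y = ⊥
    · have hyfix : ∀ x, y x = x := fun x => div_eq_one.1 (mem_bot.1 (hK0 ▸ ⟨x, rfl⟩ :
        y x / x ∈ (⊥ : Subgroup X)))
      have hs1 : s = 1 := MulEquiv.ext fun x => hfix x (hyfix x)
      refine ⟨?_, fun a _ => by rw [hs1]; rfl⟩
      rw [hydef, hs1, one_pow]
      exact Commute.one_right _
    obtain ⟨a₀, ha₀, ha₀1⟩ := (moved y).bot_or_exists_ne_one.resolve_left hK0
    have hKq := (plane_facts hc hXq hX hy hy2 hcard ha₀ ha₀1).1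
    -- the moved planes agree
    have hle : moved y ≤ moved y' := by
      intro x hx
      have h2 : (x ^ 2)⁻¹ ∈ moved y' := ⟨x, by show y' x / x = _; rw [hinv x hx, div_eq_mul_inv, ← mul_inv, pow_two]⟩
      obtain ⟨k, hk⟩ := exists_pow_eq_self_of_coprime (n := 2) (x := x)
        ((Nat.prime_two.coprime_iff_not_dvd).2 fun h => hX (h.trans (orderOf_dvd_natCard x)))
      rw [← hk]
      exact pow_mem (inv_mem_iff.1 h2) k
    have heq : moved y = moved y' := by
      refine eq_of_le_of_card_ge hle (le_of_eq ?_)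
      refine Nat.card_congr
        { toFun := fun x => ⟨p⁻¹ x, by
            obtain ⟨u, hu⟩ := x.2
            refine ⟨p⁻¹ u, ?_⟩
            show y (p⁻¹ u) / p⁻¹ u = p⁻¹ x
            rw [← hu, show movedHom y' u = y' u / u from rfl, happ, map_div, hpp']⟩
          invFun := fun x => ⟨p x, by
            obtain ⟨u, hu⟩ := x.2
            refine ⟨p u, ?_⟩
            show y' (p u) / p u = p x
            rw [← hu, show movedHom y u = y u / u from rfl, happ, map_div, hpp']⟩
          left_inv := fun x => Subtype.ext (hpp x)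
          right_inv := fun x => Subtype.ext (by
            show p⁻¹ (p x) = x
            rw [← MulAut.mul_apply, inv_mul_cancel, MulAut.one_apply]) }
    have hyeq : y' = y := by
      refine MulEquiv.ext fun x => ?_
      obtain ⟨a, ha, b, hb, rfl⟩ := exists_decomp hX hy2 x
      rw [map_mul, map_mul, hinv a ha, moved_inverted hX hy2 ha, hb]
      congr 1
      refine div_eq_one.1 (eq_one_of_moved_fixed hX hy2 (heq ▸ ⟨b, rfl⟩ : y' b / b ∈ moved y) ?_)
      rw [map_div, hfy hyy b hb, hb]
    have hpy : Commute p y := by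
      have h := hy'e.symm.trans hyeq
      rw [mul_inv_eq_iff_eq_mul] at h
      exact h
    have hs'y : Commute s' y := (hpy.mul_left hsy).mul_left hpy.inv_left
    refine ⟨hs'y, fun a ha => ?_⟩
    -- the action on the plane
    set K := moved y with hKdef
    let St : Subgroup (MulAut X) := S ⊓ centralizer {y}
    have hStc : ∀ g ∈ St, Commute g y := fun g hg => mem_centralizer_singleton_iff.1 hg.2
    let ψ : St →* MulAut K :=
      MonoidHom.mk' (fun g =>
        { toFun := fun x => ⟨(g : MulAut X) x, map_moved (hStc g g.2) x.2⟩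
          invFun := fun x => ⟨(g : MulAut X)⁻¹ x, map_moved (hStc g g.2).inv_left x.2⟩
          left_inv := fun x => Subtype.ext (by
            show (g : MulAut X)⁻¹ ((g : MulAut X) x) = x
            rw [← MulAut.mul_apply, inv_mul_cancel, MulAut.one_apply])
          right_inv := fun x => Subtype.ext (by
            show (g : MulAut X) ((g : MulAut X)⁻¹ x) = x
            rw [← MulAut.mul_apply, mul_inv_cancel, MulAut.one_apply])
          map_mul' := fun x z => Subtype.ext (map_mul (g : MulAut X) _ _) })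
        (fun g h => MulEquiv.ext fun x => Subtype.ext rfl)
    have hψapp : ∀ (g : St) (x : K), (ψ g x : X) = (g : MulAut X) x := fun g x => rfl
    let σ₀ : St := ⟨s, hsS, mem_centralizer_singleton_iff.2 hsy⟩
    let π₀ : St := ⟨p, hp, mem_centralizer_singleton_iff.2 hpy⟩
    have hR : IsPGroup 2 ψ.range := by
      exact (hS.to_le (inf_le_left : St ≤ S)).of_surjective ψ.rangeRestrict ψ.rangeRestrict_surjective
    -- a hyperbolic pair
    obtain ⟨z₀, hz₀, hz₀1⟩ : ∃ z ∈ K, c a₀ z ≠ 1 := by
      by_contra h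
      push Not at h
      exact ha₀1 (eq_one_of_orth hc hX hy hy2 ha₀ h)
    have hζq : (c a₀ z₀) ^ q = 1 := by
      have hz1 : z₀ ≠ 1 := fun h => hz₀1 (by rw [h, map_one])
      have h := (plane_facts hc hXq hX hy hy2 hcard hz₀ hz1).2
      rw [Nat.card_zpowers] at h
      rw [← map_pow, ← h, pow_orderOf_eq_one, map_one]
    set ζ := c a₀ z₀
    let T := {xz : K × K // c xz.1 xz.2 = ζ}
    letI : MulAction ψ.range T :=
      { smul := fun g xz => ⟨((g : MulAut K) xz.1.1, (g : MulAut K) xz.1.2), by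
          obtain ⟨⟨h, hh⟩, hgh⟩ := g.2
          rw [← hgh]
          show c (h xz.1.1) (h xz.1.2) = ζ
          rw [hSc hh.1]
          exact xz.2⟩
        one_smul := fun xz => rfl
        mul_smul := fun g h xz => rfl }
    have hfree : ∀ xz : T, MulAction.stabilizer ψ.range xz = ⊥ := by
      intro xz
      rw [eq_bot_iff]
      intro g hg
      rw [MulAction.mem_stabilizer_iff] at hg
      have h1 : (g : MulAut K) xz.1.1 = xz.1.1 := congrArg (fun v : T => v.1.1) hg
      have h2 : (g : MulAut K) xz.1.2 = xz.1.2 := congrArg (fun v : T => v.1.2) hg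
      rw [mem_bot]
      refine Subtype.ext (MulEquiv.ext fun v => ?_)
      rw [OneMemClass.coe_one, MulAut.one_apply]
      let F : Subgroup K :=
        { carrier := {v | (g : MulAut K) v = v}
          one_mem' := map_one (g : MulAut K)
          mul_mem' := fun {a b} ha hb => by
            show (g : MulAut K) (a * b) = a * b
            rw [map_mul, show (g : MulAut K) a = a from ha, show (g : MulAut K) b = b from hb]
          inv_mem' := fun {a} ha => by
            show (g : MulAut K) a⁻¹ = a⁻¹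
            rw [map_inv, show (g : MulAut K) a = a from ha] }
      suffices hF : F = ⊤ from (hF ▸ mem_top v : v ∈ F)
      by_contra hne
      have hKp : IsPGroup q K := hXq.to_subgroup K
      obtain ⟨j, hj⟩ := (hKp.to_subgroup F).exists_card_eq
      have hj1 : j ≤ 1 := by
        by_contra h
        refine hne (eq_top_of_le_card _ ?_)
        rw [hKq, hj]
        exact Nat.pow_le_pow_right hq.out.pos (by omega)
      have hcle : Nat.card (F.map K.subtype) ≤ q := by
        rw [card_map_of_injective K.subtype_injective, hj]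
        exact (Nat.pow_le_pow_right hq.out.pos hj1).trans (by rw [pow_one])
      have hx1 : (xz.1.1 : X) ≠ 1 := fun h => hz₀1 (by
        rw [← show c xz.1.1 xz.1.2 = ζ from xz.2, h, map_one, MonoidHom.one_apply])
      have hxe := eq_zpowers_of_card_le hXq hcle ⟨xz.1.1, h1, rfl⟩ hx1
      refine hz₀1 ?_
      rw [← show c xz.1.1 xz.1.2 = ζ from xz.2]
      exact orth_zpowers hc (hxe ▸ ⟨xz.1.2, h2, rfl⟩)
    have hdvd : Nat.card ψ.range ∣ (q ^ 2 - 1) * q := by
      refine dvd_trans ?_ (card_pairs hc hXq hX hy hy2 hcard hz₀1 hζq hK0)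
      rw [Nat.card_congr (MulAction.selfEquivOrbitsQuotientProd (G := ψ.range) (X := T) hfree), Nat.card_prod]
      exact dvd_mul_left _ _
    obtain ⟨r, hr⟩ := hR.exists_card_eq
    have hodd : ∃ d, Odd d ∧ (q ^ 2 - 1) * q = 2 ^ (m + 1) * d := by
      obtain ⟨j, rfl⟩ : ∃ j, m = j + 2 := ⟨m - 2, by omega⟩
      refine ⟨(2 ^ (j + 1) - 1) * q, Nat.odd_mul.2 ⟨?_, hq.out.odd_of_ne_two hq2⟩, ?_⟩
      · exact Nat.Even.sub_odd Nat.one_le_two_pow (even_two.pow_of_ne_zero (by omega)) odd_one
      · rw [← mul_assoc]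
        congr 1
        have e : q ^ 2 - 1 = (q + 1) * (q - 1) := by rw [← Nat.sq_sub_sq, one_pow]
        rw [e, hqm]
        have e2 : q - 1 = 2 * (2 ^ (j + 1) - 1) := by
          rw [pow_succ] at hqm ⊢
          have := Nat.one_le_two_pow (n := j + 1)
          omega
        rw [e2, pow_succ 2 (j + 2)]
        ring
    obtain ⟨d, hd, hd'⟩ := hodd
    have hrm : 2 ^ r ∣ 2 ^ (m + 1) := by
      refine (Nat.Coprime.dvd_mul_right ?_).1 (hd' ▸ hr ▸ hdvd)
      exact (Nat.coprime_two_left.2 hd).pow_left r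
    -- `ψ s` has order `2 ^ m`, so its cyclic group has index at most two
    set R := ψ.range
    let σ : R := ⟨ψ σ₀, σ₀, rfl⟩
    let π : R := ⟨ψ π₀, π₀, rfl⟩
    have hσord : orderOf σ = 2 ^ m := by
      obtain ⟨j, rfl⟩ : ∃ j, m = j + 1 := ⟨m - 1, by omega⟩
      refine orderOf_eq_prime_pow ?_ ?_
      · intro h
        have h1 := congrArg (fun v : R => ((v : MulAut K) ⟨a₀, ha₀⟩ : X)) h
        simp only [SubmonoidClass.coe_pow, σ, ← map_pow, hψapp, OneMemClass.coe_one,
          MulAut.one_apply] at h1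
        have h2 : y a₀ = a₀ := by simpa [hydef, σ₀] using h1
        rw [moved_inverted hX hy2 ha₀] at h2
        exact ha₀1 (eq_one_of_inv_eq_self hX h2)
      · refine Subtype.ext (MulEquiv.ext fun v => Subtype.ext ?_)
        simp only [SubmonoidClass.coe_pow, σ, ← map_pow, hψapp, OneMemClass.coe_one, MulAut.one_apply]
        simp [σ₀, hs]
    have hidx : (zpowers σ).index ≤ 2 := by
      have h := card_mul_index (zpowers σ)
      rw [Nat.card_zpowers, hσord, hr] at h
      have h2 := Nat.le_of_dvd (pow_pos two_pos _) hrm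
      rw [← h, pow_succ] at h2
      exact Nat.le_of_mul_le_mul_left h2 (pow_pos two_pos m)
    haveI : (zpowers σ).Normal := by
      have h0 : (zpowers σ).index ≠ 0 := index_ne_zero_of_finite
      rcases (show (zpowers σ).index = 1 ∨ (zpowers σ).index = 2 by omega) with h | h
      · rw [index_eq_one.1 h]; infer_instance
      · exact normal_of_index_eq_two h
    obtain ⟨i, hi⟩ := mem_zpowers_iff.1
      (Subgroup.Normal.conj_mem inferInstance σ (mem_zpowers σ) π)
    have hcomm : Commute (π * σ * π⁻¹) σ := by rw [← hi]; exact (Commute.refl σ).zpow_left i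
    have h := congrArg (fun v : R => ((v : MulAut K) ⟨a, ha⟩ : X)) hcomm.eq
    simpa [σ, π, ← map_inv, ← map_mul, hψapp, σ₀, π₀, hs'] using h

end Cfsg.Agent.Lib.GrossTwo
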